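import Mathlib

/-!
# Project U5 : a concrete model of `F_4` and of `5 × 5` matrices over it, with the glue to an abstract field of
four elements.  (`lead`)
-/

set_option autoImplicit false

namespace Cfsg.Agent.Lib.Lead.U5

/-- the field with four elements: `z = 0`, `o = 1`, `a = ω`, `b = ω² = ω + 1` -/
inductive E4 : Type
  | z | o | a | b
  deriving DecidableEq, Repr

namespace E4

def add : E4 → E4 → E4
  | z, y => y
  | x, z => x
  | o, o => z
  | o, a => b
  | o, b => a
  | a, o => b
  | a, a => z
  | a, b => o
  | b, o => a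
  | b, a => o
  | b, b => z

def mul : E4 → E4 → E4
  | z, _ => z
  | _, z => z
  | o, y => y
  | x, o => x
  | a, a => b
  | a, b => o
  | b, a => o
  | b, b => a

/-- the Frobenius `x ↦ x²` -/
def sq : E4 → E4
  | z => z
  | o => o
  | a => b
  | b => a

end E4

/-- concrete matrices: a list of rows -/
abbrev CM := List (List E4)

def ent (M : CM) (i j : ℕ) : E4 := (M.getD i []).getD j E4.z

def dot (M N : CM) (i j : ℕ) : E4 :=
  E4.add (E4.add (E4.add (E4.add (E4.mul (ent M i 0) (ent N 0 j)) (E4.mul (ent M i 1) (ent N 1 j)))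
    (E4.mul (ent M i 2) (ent N 2 j))) (E4.mul (ent M i 3) (ent N 3 j))) (E4.mul (ent M i 4) (ent N 4 j))

def row5 (f : ℕ → E4) : List E4 := [f 0, f 1, f 2, f 3, f 4]

def mk5 (f : ℕ → ℕ → E4) : CM := [row5 (f 0), row5 (f 1), row5 (f 2), row5 (f 3), row5 (f 4)]

def cmul (M N : CM) : CM := mk5 (dot M N)

/-- conjugate transpose-free unitarity test: `(Mᵀ M̄)_{ij} = Σ_l M_{li} M_{lj}²` -/
def udot (M : CM) (i j : ℕ) : E4 :=
  E4.add (E4.add (E4.add (E4.add (E4.mul (ent M 0 i) (E4.sq (ent M 0 j))) (E4.mul (ent M 1 i) (E4.sq (ent M 1 j))))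
    (E4.mul (ent M 2 i) (E4.sq (ent M 2 j)))) (E4.mul (ent M 3 i) (E4.sq (ent M 3 j))))
    (E4.mul (ent M 4 i) (E4.sq (ent M 4 j)))

def cone : CM := mk5 (fun i j => if i = j then E4.o else E4.z)

def isU (M : CM) : Bool := mk5 (udot M) == cone

def csmul (c : E4) (M : CM) : CM := mk5 (fun i j => E4.mul c (ent M i j))

theorem ent_mk5 (f : ℕ → ℕ → E4) (i j : Fin 5) : ent (mk5 f) i j = f i j := by
  fin_cases i <;> fin_cases j <;> rfl

section glue

variable {F : Type*} [Field F]

/-- the embedding of `E4` attached to `ω` -/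
def iota (ω : F) : E4 → F
  | E4.z => 0
  | E4.o => 1
  | E4.a => ω
  | E4.b => ω + 1

variable {ω : F}

theorem iota_add (h2 : (2 : F) = 0) (x y : E4) : iota ω (E4.add x y) = iota ω x + iota ω y := by
  have h11 : (1 : F) + 1 = 0 := by rw [← h2]; norm_num
  have hww : ω + ω = 0 := by
    have : ω + ω = 2 * ω := by ring
    rw [this, h2, zero_mul]
  cases x <;> cases y <;> simp only [E4.add, iota] <;> first
    | ring1
    | linear_combination (-1 : F) * h11
    | linear_combination (-1 : F) * hww
    | linear_combination (-1 : F) * h11 - hww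
    | linear_combination h11
    | linear_combination hww

theorem iota_mul (h2 : (2 : F) = 0) (hω : ω ^ 2 + ω + 1 = 0) (x y : E4) :
    iota ω (E4.mul x y) = iota ω x * iota ω y := by
  have h11 : (1 : F) + 1 = 0 := by rw [← h2]; norm_num
  have hww : ω + ω = 0 := by
    have : ω + ω = 2 * ω := by ring
    rw [this, h2, zero_mul]
  cases x <;> cases y <;> simp only [E4.mul, iota] <;> first
    | ring1
    | linear_combination (-1 : F) * hω
    | linear_combination (-1 : F) * hω + hww
    | linear_combination (-1 : F) * hω + hww + h11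
    | linear_combination (-1 : F) * hω - hww
    | linear_combination (-1 : F) * hω - hww - h11
    | linear_combination (-1 : F) * hω + h11
    | linear_combination (-1 : F) * hω - h11

theorem iota_sq (h2 : (2 : F) = 0) (hω : ω ^ 2 + ω + 1 = 0) (x : E4) : iota ω (E4.sq x) = iota ω x ^ 2 := by
  have h11 : (1 : F) + 1 = 0 := by rw [← h2]; norm_num
  have hww : ω + ω = 0 := by
    have : ω + ω = 2 * ω := by ring
    rw [this, h2, zero_mul]
  cases x <;> simp only [E4.sq, iota] <;> first
    | ring1
    | linear_combination (-1 : F) * hω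
    | linear_combination (-1 : F) * hω - hww
    | linear_combination (-1 : F) * hω + hww
    | linear_combination (-1 : F) * hω + hww + h11
    | linear_combination (-1 : F) * hω - hww - h11

theorem iota_injective (h2 : (2 : F) = 0) (hω : ω ^ 2 + ω + 1 = 0) : Function.Injective (iota ω) := by
  have h01 : (1 : F) ≠ 0 := one_ne_zero
  have h0 : ω ≠ 0 := by
    rintro rfl
    simp at hω
  have hw1 : ω ≠ 1 := by
    rintro rfl
    apply h01
    linear_combination hω - h2
  have h1 : ω + 1 ≠ 0 := by
    intro h
    apply hw1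
    linear_combination h - h2
  have h1' : ω + 1 ≠ 1 := by
    intro h
    apply h0
    linear_combination h
  have h1'' : ω + 1 ≠ ω := by
    intro h
    apply h01
    linear_combination h
  intro x y h
  cases x <;> cases y <;> simp only [iota] at h <;> first
    | rfl
    | exact absurd h h01
    | exact absurd h.symm h01
    | exact absurd h h0
    | exact absurd h.symm h0
    | exact absurd h hw1
    | exact absurd h.symm hw1
    | exact absurd h h1
    | exact absurd h.symm h1
    | exact absurd h h1'
    | exact absurd h.symm h1'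
    | exact absurd h h1''
    | exact absurd h.symm h1''

end glue

end Cfsg.Agent.Lib.Lead.U5
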