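import Mathlib
import Cfsg.Agent.Lib.Lead.U5.E4

/-!
# Project U5 : the 660 matrices of an explicit `L_2(11) < SU_5(2)` and the closure certificate. (`lead`, generated)
-/

set_option autoImplicit false
set_option maxRecDepth 100000

namespace Cfsg.Agent.Lib.Lead.U5

open E4

def gs : CM := [[o, b, b, b, o], [a, o, o, b, b], [a, o, o, a, o], [a, a, b, z, z], [o, a, o, z, z]]

def gt : CM := [[o, b, a, a, a], [a, a, a, a, a], [a, b, o, z, z], [b, o, z, z, a], [a, b, z, o, z]]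

def p0inv : CM := [[o, a, b, o, z], [z, a, o, b, o], [z, o, o, z, z], [z, a, z, z, a], [z, b, a, o, b]]

def dwit : CM := [[z, o, z, z, z], [o, z, z, z, z], [z, z, o, z, z], [z, z, z, o, z], [z, z, z, z, o]]

def tbl : List CM := [
  [[o, z, z, z, z], [z, o, z, z, z], [z, z, o, z, z], [z, z, z, o, z], [z, z, z, z, o]],
  [[o, b, b, b, o], [a, o, o, b, b], [a, o, o, a, o], [a, a, b, z, z], [o, a, o, z, z]],
  [[o, b, a, a, a], [a, a, a, a, a], [a, b, o, z, z], [b, o, z, z, a], [a, b, z, o, z]],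
  [[o, z, z, a, a], [o, o, z, a, z], [o, o, z, z, a], [z, z, b, z, z], [z, b, z, o, o]],
  [[a, a, o, a, o], [b, o, a, b, o], [o, b, b, o, o], [b, z, o, o, z], [o, z, o, b, z]],
  [[o, z, o, o, z], [z, z, a, a, b], [o, b, b, a, a], [a, o, b, o, b], [z, o, a, a, z]],
  [[z, b, z, b, o], [z, o, b, z, a], [o, o, z, z, a], [o, b, b, o, b], [a, b, o, a, a]],
  [[b, z, a, z, o], [a, b, z, z, b], [z, z, z, a, z], [o, a, b, z, z], [z, b, o, z, b]],
  [[z, z, o, o, b], [a, o, o, a, a], [z, a, z, a, o], [a, z, z, o, b], [o, b, b, a, b]],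
  [[o, z, o, o, z], [b, z, z, b, a], [z, b, z, z, z], [z, z, b, b, a], [a, z, a, z, o]],
  [[z, o, b, a, z], [b, o, a, b, b], [b, b, z, o, z], [b, a, a, a, b], [z, o, z, a, o]],
  [[o, o, o, z, z], [z, o, o, z, a], [z, z, z, a, z], [b, b, z, z, o], [b, z, b, z, o]],
  [[o, a, o, o, o], [z, b, o, b, z], [b, b, o, z, z], [b, a, a, b, b], [z, b, o, z, b]],
  [[a, z, b, z, o], [a, a, a, o, a], [o, a, z, z, b], [b, a, a, o, o], [a, z, z, a, o]],
  [[b, a, o, a, o], [b, o, a, z, z], [o, b, a, o, o], [b, a, o, o, a], [o, o, o, z, z]],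
  [[z, z, o, b, a], [z, b, z, b, a], [z, a, b, a, z], [z, a, b, z, o], [o, z, z, z, z]],
  [[z, o, b, a, z], [a, z, o, b, z], [o, o, o, o, o], [z, z, b, a, o], [b, b, o, a, b]],
  [[z, o, b, a, z], [z, o, z, a, a], [z, b, a, z, o], [b, z, z, z, z], [z, z, o, b, b]],
  [[a, a, o, a, o], [o, z, o, z, a], [o, a, z, z, a], [b, z, z, o, o], [o, b, a, b, o]],
  [[o, b, b, a, b], [a, b, a, o, a], [b, b, o, z, z], [b, b, z, z, o], [b, b, z, b, z]],
  [[o, a, o, z, z], [b, z, b, z, a], [o, a, z, z, b], [z, z, z, o, z], [z, b, a, z, o]],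
  [[o, o, z, z, b], [o, o, z, o, z], [z, z, o, z, z], [z, o, z, o, b], [a, z, z, a, o]],
  [[a, z, b, z, o], [a, z, z, b, o], [o, z, a, a, z], [z, a, z, z, z], [z, z, o, o, a]],
  [[o, z, z, a, b], [a, b, a, a, a], [b, a, o, a, o], [a, a, z, b, z], [o, z, b, a, z]],
  [[o, b, o, a, o], [a, o, b, a, a], [o, a, z, z, a], [b, b, z, z, a], [o, b, b, b, o]],
  [[b, o, o, a, o], [z, b, o, b, z], [b, b, z, b, z], [z, a, z, a, b], [o, b, a, a, a]],
  [[z, o, b, a, z], [o, o, a, b, b], [a, b, o, a, b], [b, a, b, o, b], [z, a, a, a, z]],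
  [[a, a, o, a, o], [a, o, a, b, a], [z, z, o, o, a], [a, b, b, o, b], [z, z, o, b, b]],
  [[a, a, o, a, o], [z, o, a, z, o], [z, b, b, z, o], [b, a, o, o, o], [o, a, o, b, o]],
  [[o, b, a, a, a], [o, o, z, o, z], [z, a, b, a, z], [z, a, z, a, b], [b, o, o, a, o]],
  [[z, z, o, o, b], [z, o, b, z, a], [o, o, o, b, o], [a, z, o, z, b], [b, b, o, a, a]],
  [[z, z, z, z, o], [z, a, b, b, z], [o, z, a, a, z], [a, a, b, z, z], [b, b, z, o, z]],
  [[z, b, z, o, o], [o, o, a, b, o], [b, a, o, a, o], [b, o, z, z, a], [z, b, b, z, o]],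
  [[z, b, o, z, a], [o, z, o, z, a], [a, o, o, a, o], [b, a, o, b, b], [z, z, o, o, a]],
  [[a, b, z, b, z], [z, z, z, z, a], [a, b, o, z, z], [z, o, a, o, z], [o, z, b, a, z]],
  [[o, z, z, a, b], [a, o, b, a, a], [b, z, z, a, o], [b, b, b, b, b], [a, b, o, a, a]],
  [[o, o, o, b, o], [o, z, b, z, a], [z, z, o, o, b], [z, a, o, z, b], [b, b, o, a, a]],
  [[o, b, a, o, o], [a, a, z, z, o], [o, b, b, b, o], [b, o, z, z, o], [o, b, o, a, o]],
  [[o, z, a, a, z], [b, a, a, b, a], [o, o, o, b, o], [o, a, z, a, z], [o, z, z, a, a]],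
  [[o, b, a, b, o], [a, b, z, z, b], [b, z, b, z, o], [b, z, z, o, o], [a, a, o, a, o]],
  [[z, a, a, a, z], [o, o, z, o, z], [z, z, z, z, o], [b, b, b, z, z], [o, z, o, o, z]],
  [[o, b, a, a, a], [z, z, a, o, b], [a, z, z, a, o], [b, a, o, a, b], [z, o, z, a, o]],
  [[z, z, o, o, b], [a, z, b, b, z], [a, b, o, a, a], [z, o, o, o, z], [o, a, o, b, o]],
  [[o, b, a, a, a], [z, o, a, z, o], [o, a, o, b, o], [o, o, b, o, b], [z, b, b, z, o]],
  [[z, z, o, o, b], [b, z, z, b, a], [a, z, a, z, o], [b, z, b, b, z], [z, b, z, z, z]],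
  [[o, z, o, o, z], [z, z, z, z, a], [b, b, z, b, z], [b, b, b, z, z], [z, a, a, a, z]],
  [[b, a, o, a, o], [o, o, z, a, z], [o, z, z, a, b], [b, o, b, b, b], [o, z, b, a, z]],
  [[z, z, o, b, a], [z, o, o, z, a], [o, a, o, o, o], [o, z, a, z, b], [a, b, o, a, b]],
  [[a, b, z, o, z], [z, a, z, b, a], [b, z, z, a, o], [z, z, b, z, z], [o, a, z, z, a]],
  [[a, b, o, a, a], [z, b, b, b, z], [z, z, o, o, b], [b, z, o, o, z], [o, a, o, b, o]],
  [[z, b, o, z, b], [z, z, a, o, o], [o, b, b, b, o], [a, o, b, o, b], [a, z, a, z, o]],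
  [[a, b, z, b, z], [a, b, a, z, z], [o, b, b, o, o], [b, o, z, z, o], [b, b, o, a, a]],
  [[o, b, a, a, b], [b, o, z, a, z], [o, b, b, a, a], [a, a, z, a, z], [o, b, o, a, o]],
  [[o, o, o, b, o], [z, b, z, b, a], [o, b, a, a, b], [o, a, b, o, a], [z, b, z, o, o]],
  [[o, b, a, o, o], [b, a, a, b, a], [z, b, o, z, a], [z, z, b, b, o], [b, z, b, z, o]],
  [[o, a, o, o, o], [b, z, o, z, a], [z, z, o, b, a], [z, a, a, z, b], [a, b, o, a, b]],
  [[z, a, z, a, o], [z, o, a, z, b], [o, z, z, z, z], [z, o, a, o, z], [z, z, o, b, a]],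
  [[a, o, o, a, o], [b, o, z, o, z], [o, z, z, a, a], [b, b, b, a, b], [o, z, a, a, z]],
  [[o, a, z, z, b], [z, z, a, z, z], [o, z, z, a, b], [o, a, z, a, z], [z, b, z, b, o]],
  [[b, z, z, a, o], [a, a, z, z, b], [o, a, o, o, o], [b, a, o, o, a], [b, z, a, z, o]],
  [[b, b, o, a, a], [a, a, a, o, a], [z, b, a, z, o], [a, z, o, z, b], [z, z, o, o, b]],
  [[b, b, o, a, b], [o, z, o, z, a], [o, a, o, z, z], [b, a, a, o, a], [o, z, o, o, z]],
  [[o, z, o, b, z], [z, z, z, z, a], [a, b, z, o, z], [b, o, b, z, z], [z, o, b, a, z]],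
  [[o, z, o, o, z], [o, a, a, b, a], [o, z, b, a, z], [a, a, b, o, o], [o, b, a, b, o]],
  [[b, a, o, a, o], [a, b, z, z, o], [z, b, z, o, o], [a, a, b, o, a], [z, b, b, z, o]],
  [[z, z, o, b, a], [o, z, z, b, a], [b, z, b, z, o], [b, z, b, a, z], [z, b, z, z, z]],
  [[b, a, o, a, o], [z, z, a, a, b], [z, o, a, a, z], [b, z, b, b, z], [o, b, b, a, a]],
  [[z, z, o, b, a], [a, z, o, b, z], [b, b, o, a, b], [z, b, a, o, z], [o, o, o, o, o]],
  [[o, z, o, o, z], [a, b, a, z, z], [b, z, b, z, o], [b, a, a, o, a], [b, b, o, a, b]],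
  [[z, o, b, a, z], [b, o, z, a, z], [z, z, z, z, o], [b, o, b, z, z], [o, z, o, b, z]],
  [[o, b, b, b, o], [a, b, z, z, b], [o, b, a, o, o], [b, b, z, z, a], [o, b, o, a, o]],
  [[o, b, o, a, o], [a, b, a, o, a], [b, z, a, z, o], [o, z, a, z, b], [o, o, o, o, o]],
  [[b, o, o, a, o], [b, z, b, z, a], [o, o, z, z, b], [b, z, z, o, a], [o, b, b, o, o]],
  [[o, z, o, b, z], [z, z, a, o, o], [o, b, a, a, b], [o, b, b, o, b], [z, a, b, a, z]],
  [[z, o, a, a, z], [a, o, b, o, a], [z, b, o, z, a], [o, a, b, z, z], [o, o, o, b, o]],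
  [[b, z, b, z, o], [a, z, a, o, z], [z, z, o, b, a], [a, z, z, o, b], [z, b, z, z, z]],
  [[z, b, o, z, b], [z, a, z, b, a], [o, z, z, z, z], [z, z, b, b, a], [z, o, a, a, z]],
  [[a, z, z, a, o], [a, b, a, o, a], [o, z, z, a, a], [b, a, a, a, b], [b, b, o, a, b]],
  [[o, b, a, a, b], [z, o, z, a, a], [z, a, z, a, o], [b, b, b, a, b], [a, b, o, a, b]],
  [[b, z, z, a, o], [a, z, a, o, z], [z, b, z, z, z], [a, z, a, z, b], [z, z, o, b, a]],
  [[b, b, o, z, z], [z, a, b, b, z], [b, b, z, o, z], [z, z, z, z, b], [o, z, a, a, z]],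
  [[z, a, z, a, o], [z, z, a, z, z], [o, o, z, z, b], [o, z, z, o, b], [b, b, z, b, z]],
  [[a, o, o, a, o], [a, a, z, z, b], [z, b, z, b, o], [o, a, b, o, o], [z, b, a, z, o]],
  [[b, z, a, z, o], [b, z, o, z, a], [o, b, o, a, o], [b, o, b, a, b], [o, o, o, o, o]],
  [[o, o, z, z, b], [a, z, z, b, o], [b, o, o, a, o], [o, z, o, z, b], [o, b, b, o, o]],
  [[z, a, b, a, z], [z, o, z, o, a], [o, b, a, a, a], [a, a, z, a, z], [b, o, o, a, o]],
  [[z, z, o, z, z], [b, o, z, o, z], [z, b, z, b, o], [b, z, z, o, a], [o, a, z, z, b]],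
  [[o, o, z, z, a], [a, o, b, b, o], [b, z, a, z, o], [b, o, b, b, b], [b, z, z, a, o]],
  [[o, b, a, a, b], [a, a, z, z, b], [b, z, a, z, o], [a, z, z, o, b], [o, a, o, o, o]],
  [[z, b, o, z, a], [z, z, z, b, z], [o, o, z, z, b], [a, a, b, z, z], [a, z, b, z, o]],
  [[o, z, b, a, z], [a, z, z, b, o], [b, b, z, o, z], [b, o, b, b, b], [b, a, o, a, o]],
  [[a, b, o, a, b], [a, b, a, a, a], [z, b, b, z, o], [o, z, a, z, b], [z, z, o, b, a]],
  [[z, z, o, b, b], [z, o, b, z, a], [z, b, z, o, o], [b, z, z, z, z], [z, o, b, a, z]],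
  [[a, b, z, o, z], [a, b, a, z, z], [o, z, o, b, z], [z, z, z, z, b], [z, o, b, a, z]],
  [[o, b, b, a, b], [b, o, z, a, z], [z, o, a, a, z], [z, a, z, b, b], [a, a, o, a, o]],
  [[o, z, o, o, z], [a, o, b, o, a], [b, b, o, a, a], [b, z, a, o, z], [b, o, o, a, o]],
  [[z, o, b, a, z], [z, b, b, b, z], [o, b, o, a, o], [o, a, b, o, a], [b, b, o, a, a]],
  [[o, b, b, b, o], [o, b, a, b, a], [z, b, o, z, b], [z, z, b, a, a], [a, z, a, z, o]],
  [[o, b, o, a, o], [a, o, b, b, o], [b, b, z, b, z], [o, a, z, b, z], [o, b, b, a, a]],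
  [[b, o, o, a, o], [z, o, a, z, b], [z, b, a, z, o], [b, a, a, o, a], [o, o, o, o, o]],
  [[o, b, b, b, o], [b, o, a, b, b], [z, o, z, a, o], [z, b, a, o, z], [b, b, z, o, z]],
  [[o, b, o, a, o], [o, o, a, b, b], [z, a, a, a, z], [z, b, a, o, z], [a, b, o, a, b]],
  [[b, o, o, a, o], [a, o, a, b, a], [z, z, o, b, b], [o, o, b, o, b], [z, z, o, o, a]],
  [[z, o, b, a, z], [a, z, a, o, z], [o, a, o, z, z], [z, z, z, z, b], [a, b, z, o, z]],
  [[a, a, o, a, o], [z, a, b, b, z], [a, b, z, o, z], [z, a, z, b, b], [o, b, b, a, b]],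
  [[o, z, z, z, z], [z, b, o, b, z], [z, a, z, a, o], [z, a, b, z, o], [z, z, o, b, a]],
  [[o, z, z, a, a], [a, a, a, o, a], [a, o, o, a, o], [o, a, z, a, z], [o, z, a, a, z]],
  [[o, z, a, a, z], [z, o, z, z, z], [a, z, b, z, o], [b, z, z, o, a], [z, z, o, o, a]],
  [[o, b, a, b, o], [z, a, b, b, z], [z, b, o, z, a], [b, b, b, a, b], [a, b, o, z, z]],
  [[z, a, a, a, z], [o, o, a, b, o], [a, b, z, b, z], [b, a, o, b, b], [z, a, z, a, o]],
  [[a, z, a, z, o], [o, a, a, b, a], [o, o, z, z, b], [b, a, a, b, b], [o, z, z, a, b]],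
  [[z, o, z, a, o], [o, o, a, b, b], [z, b, z, b, o], [b, a, a, o, o], [o, a, o, o, o]],
  [[b, b, z, b, z], [b, o, z, a, z], [o, b, o, a, o], [b, a, o, o, a], [o, b, b, a, a]],
  [[z, b, a, z, o], [a, o, o, b, o], [b, o, o, a, o], [z, a, b, z, o], [o, o, o, o, o]],
  [[a, z, z, a, o], [a, o, b, o, a], [o, b, a, a, a], [z, z, b, a, o], [z, o, z, a, o]],
  [[z, z, o, o, a], [z, o, o, z, a], [z, b, z, b, o], [b, z, z, z, z], [z, a, a, a, z]],
  [[o, z, b, a, z], [z, o, z, z, z], [b, z, a, z, o], [b, z, z, o, o], [z, z, o, b, b]],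
  [[b, z, z, a, o], [b, o, a, b, b], [o, b, a, o, o], [b, z, z, o, a], [o, o, o, o, o]],
  [[b, b, o, z, z], [z, o, a, z, o], [z, a, b, a, z], [b, o, b, b, b], [o, b, b, o, o]],
  [[z, b, o, z, a], [a, o, o, b, o], [o, o, o, o, o], [z, a, o, z, b], [b, o, o, a, o]],
  [[z, z, z, a, z], [b, z, b, z, a], [z, b, a, z, o], [b, o, b, z, z], [o, a, z, z, b]],
  [[z, z, o, z, z], [z, a, z, b, a], [o, a, z, z, a], [o, a, z, b, z], [b, z, z, a, o]],
  [[z, a, b, a, z], [b, o, a, z, z], [a, b, z, b, z], [b, z, a, o, z], [z, z, z, z, o]],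
  [[z, z, o, z, z], [a, a, z, z, b], [o, z, z, a, a], [z, a, z, b, b], [b, b, z, o, z]],
  [[o, o, z, z, a], [z, z, z, b, z], [o, o, o, z, z], [a, z, a, z, b], [z, b, b, z, o]],
  [[z, b, o, z, a], [a, a, a, o, a], [o, b, a, b, o], [z, b, o, o, z], [a, b, o, z, z]],
  [[a, b, z, b, z], [a, o, b, a, a], [z, a, a, a, z], [a, a, b, o, a], [z, a, z, a, o]],
  [[o, a, z, z, a], [a, z, z, b, b], [a, a, o, a, o], [a, z, a, z, b], [o, b, a, b, o]],
  [[b, b, z, b, z], [a, a, a, z, z], [o, z, o, o, z], [z, z, z, z, b], [z, a, a, a, z]],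
  [[a, b, o, z, z], [a, o, b, b, o], [o, o, o, z, z], [b, a, o, b, b], [b, a, o, a, o]],
  [[o, o, z, z, a], [o, z, z, b, a], [o, a, o, o, o], [a, z, o, z, b], [o, b, a, a, b]],
  [[z, z, z, a, z], [o, o, a, z, z], [a, z, b, z, o], [b, b, z, z, a], [z, b, o, z, a]],
  [[b, b, o, z, z], [z, z, z, b, z], [a, z, b, z, o], [z, a, b, z, o], [o, o, z, z, b]],
  [[o, o, z, z, b], [o, o, a, z, z], [z, b, o, z, a], [z, z, z, o, z], [a, z, b, z, o]],
  [[z, b, z, b, o], [a, b, z, z, o], [a, b, z, b, z], [z, z, b, z, z], [o, z, z, a, b]],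
  [[o, o, o, o, o], [o, z, b, z, a], [o, a, o, b, o], [o, z, a, z, b], [o, b, o, a, o]],
  [[o, b, b, o, o], [a, a, z, z, o], [a, z, a, z, o], [b, z, z, o, a], [b, o, o, a, o]],
  [[z, o, z, a, o], [o, o, z, a, z], [a, b, o, a, a], [b, a, a, a, b], [z, o, b, a, z]],
  [[o, a, o, b, o], [z, o, o, z, a], [z, b, o, z, b], [b, a, o, o, o], [a, a, o, a, o]],
  [[z, o, a, a, z], [z, o, z, a, a], [o, b, b, a, b], [o, a, z, b, z], [a, a, o, a, o]],
  [[o, o, o, z, z], [a, z, a, o, z], [a, z, a, z, o], [o, a, b, o, o], [o, b, a, a, a]],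
  [[o, z, z, z, z], [z, a, b, b, z], [z, o, z, a, o], [z, a, b, z, a], [z, z, o, o, b]],
  [[z, o, b, a, z], [o, o, a, b, o], [z, z, o, b, a], [b, b, b, b, b], [o, z, b, a, z]],
  [[a, a, o, a, o], [a, z, a, o, z], [o, z, a, a, z], [b, a, a, b, b], [a, b, o, a, b]],
  [[o, z, z, z, z], [z, z, a, a, o], [z, b, o, z, b], [z, b, z, o, b], [z, o, a, a, z]],
  [[o, z, z, a, a], [a, o, o, o, a], [a, z, z, a, o], [b, o, b, a, b], [b, b, o, a, b]],
  [[o, z, a, a, z], [o, o, a, z, z], [z, z, z, z, o], [z, b, o, o, z], [b, b, z, o, z]],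
  [[o, b, a, b, o], [a, a, z, z, o], [b, b, z, o, z], [b, b, b, z, z], [a, b, o, a, b]],
  [[z, a, a, a, z], [z, o, z, o, a], [z, b, b, z, o], [b, z, z, z, z], [z, z, o, o, a]],
  [[o, z, z, z, z], [z, o, z, a, a], [z, z, o, b, b], [z, b, a, o, z], [z, b, a, z, o]],
  [[o, z, z, a, a], [o, z, o, z, a], [o, b, a, b, o], [o, o, b, o, b], [o, a, z, z, a]],
  [[o, z, a, a, z], [b, o, a, b, o], [o, z, o, b, z], [o, o, b, o, b], [o, b, b, o, o]],
  [[o, b, a, b, o], [z, z, a, o, b], [z, o, z, a, o], [b, a, o, o, o], [a, z, z, a, o]],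
  [[z, a, a, a, z], [a, z, b, b, z], [o, a, o, b, o], [z, z, b, b, a], [a, b, o, a, a]],
  [[a, a, o, a, o], [a, o, o, b, o], [z, b, z, o, o], [o, a, z, b, z], [z, o, a, a, z]],
  [[o, b, a, a, a], [b, z, b, z, a], [o, z, o, b, z], [o, a, b, o, o], [o, o, o, z, z]],
  [[z, z, o, o, b], [z, a, z, b, a], [z, o, a, a, z], [z, a, b, z, a], [o, z, z, z, z]],
  [[z, b, z, b, o], [a, z, z, b, o], [z, z, o, z, z], [o, a, z, a, z], [o, a, z, z, b]],
  [[b, z, a, z, o], [a, b, a, a, a], [o, o, z, z, a], [b, a, o, o, a], [b, z, z, a, o]],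
  [[o, a, z, z, b], [a, o, o, b, b], [a, z, b, z, o], [b, b, b, a, b], [a, z, z, a, o]],
  [[b, z, z, a, o], [a, a, a, a, a], [o, z, z, a, b], [b, a, o, b, b], [a, b, o, a, a]],
  [[b, b, o, a, a], [z, a, z, b, a], [z, b, z, b, o], [b, o, b, b, b], [o, b, b, a, a]],
  [[b, b, o, a, b], [z, b, b, b, z], [a, b, z, b, z], [z, o, z, o, b], [o, b, a, o, o]],
  [[z, z, o, b, b], [a, z, o, b, z], [o, z, z, a, a], [z, a, z, z, z], [b, z, a, z, o]],
  [[o, b, a, b, o], [b, o, a, b, o], [o, o, o, z, z], [a, a, z, b, z], [o, o, z, z, b]],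
  [[b, b, z, o, z], [a, a, a, z, z], [o, b, a, b, o], [b, b, z, z, a], [a, b, o, a, b]],
  [[z, b, b, z, o], [a, z, z, z, z], [z, a, a, a, z], [z, a, z, a, b], [z, z, o, o, a]],
  [[z, z, o, o, a], [o, a, a, b, a], [a, a, o, a, o], [b, a, b, o, b], [z, z, o, b, b]],
  [[o, z, b, a, z], [o, o, a, b, b], [o, z, o, o, z], [a, b, b, o, b], [o, b, a, b, o]],
  [[a, b, o, a, a], [b, z, b, z, a], [o, o, o, z, z], [b, a, o, o, o], [o, z, o, b, z]],
  [[b, b, o, a, a], [a, o, o, b, b], [o, a, o, o, o], [z, a, z, a, b], [z, o, z, a, o]],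
  [[o, b, o, a, o], [a, a, a, a, a], [a, z, b, z, o], [a, z, o, z, b], [o, a, o, b, o]],
  [[z, z, z, a, z], [z, o, a, z, o], [o, a, z, z, a], [a, z, o, z, b], [a, b, o, z, z]],
  [[z, z, o, z, z], [b, z, z, b, a], [b, b, z, b, z], [b, b, z, z, a], [z, a, z, a, o]],
  [[o, o, z, z, b], [a, a, a, z, z], [a, b, o, a, b], [a, a, z, b, z], [o, b, a, b, o]],
  [[z, b, z, b, o], [a, z, z, z, z], [z, z, o, o, a], [z, a, a, z, b], [z, a, a, a, z]],
  [[o, a, z, z, b], [o, o, a, b, o], [z, b, b, z, o], [z, a, z, b, b], [b, a, o, a, o]],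
  [[a, o, o, a, o], [z, z, a, o, o], [z, a, b, a, z], [b, z, b, a, z], [o, b, a, a, b]],
  [[a, b, o, z, z], [a, o, b, o, a], [o, o, o, b, o], [z, b, o, o, z], [z, b, o, z, a]],
  [[o, a, z, z, a], [a, o, o, a, a], [a, b, z, b, z], [a, a, b, o, o], [o, a, o, z, z]],
  [[b, b, z, b, z], [a, o, o, b, b], [o, b, a, a, b], [b, a, b, o, b], [a, b, z, o, z]],
  [[a, b, o, z, z], [z, z, z, b, z], [b, z, a, z, o], [z, a, b, z, a], [o, a, z, z, a]],
  [[o, o, z, z, a], [o, o, a, z, z], [o, b, b, a, b], [a, a, z, a, z], [o, a, o, b, o]],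
  [[z, z, z, a, z], [a, b, z, z, o], [o, a, o, z, z], [z, a, o, z, b], [a, z, a, z, o]],
  [[z, b, z, b, o], [a, b, a, a, a], [b, b, o, a, a], [z, b, z, o, b], [o, b, b, a, a]],
  [[a, b, z, b, z], [z, b, z, b, a], [b, b, o, a, b], [z, o, o, o, z], [o, b, a, o, o]],
  [[o, b, a, a, b], [b, a, a, b, a], [o, z, o, b, z], [z, z, b, a, a], [z, a, b, a, z]],
  [[b, z, b, z, o], [a, o, o, b, o], [o, z, o, o, z], [b, o, b, z, z], [b, b, o, a, b]],
  [[z, z, z, z, o], [a, b, a, z, z], [z, o, b, a, z], [o, a, z, b, z], [o, z, o, b, z]],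
  [[o, b, b, o, o], [o, z, z, b, a], [o, b, b, a, b], [z, o, z, o, b], [z, z, o, o, b]],
  [[o, b, b, a, a], [o, o, a, z, z], [o, a, o, z, z], [o, b, b, o, b], [o, b, b, b, o]],
  [[z, z, z, a, z], [z, o, a, z, b], [o, o, z, z, b], [o, z, a, z, b], [b, b, o, z, z]],
  [[z, z, o, z, z], [a, b, z, z, o], [o, z, z, a, b], [z, a, z, a, b], [a, b, z, b, z]],
  [[a, b, z, b, z], [z, z, a, z, z], [z, b, z, b, o], [b, o, z, z, a], [o, z, z, a, b]],
  [[o, z, z, a, a], [a, z, b, b, z], [a, b, z, b, z], [o, b, b, o, b], [o, o, o, b, o]],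
  [[o, o, o, z, z], [o, b, a, b, a], [o, b, a, a, b], [o, a, b, z, z], [o, b, a, o, o]],
  [[z, z, o, o, a], [b, z, o, z, a], [z, b, z, z, z], [b, z, z, o, a], [o, z, a, a, z]],
  [[a, b, o, z, z], [z, o, a, z, b], [z, o, a, a, z], [b, b, b, a, b], [o, b, a, b, o]],
  [[z, a, z, a, o], [b, o, z, o, z], [b, b, o, a, b], [b, a, o, b, b], [z, a, a, a, z]],
  [[z, b, b, z, o], [a, b, a, o, a], [z, b, o, z, b], [o, o, b, o, b], [o, b, a, a, a]],
  [[z, b, z, z, z], [b, z, b, z, a], [a, z, z, a, o], [b, z, b, b, z], [z, z, o, o, b]],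
  [[a, z, a, z, o], [b, o, a, b, b], [o, o, o, z, z], [b, z, b, a, z], [o, b, a, a, a]],
  [[z, o, z, a, o], [z, o, a, z, o], [o, z, z, z, z], [z, b, o, o, z], [z, z, o, o, b]],
  [[o, a, o, z, z], [a, o, o, b, o], [b, b, o, a, b], [a, z, a, z, b], [o, z, o, o, z]],
  [[o, b, b, b, o], [b, z, b, z, a], [z, z, o, b, b], [z, a, b, z, a], [b, a, o, a, o]],
  [[o, b, a, a, a], [z, a, z, b, a], [o, b, a, b, o], [o, z, z, o, b], [z, z, o, b, a]],
  [[a, a, o, a, o], [z, z, a, o, o], [b, o, o, a, o], [z, z, b, b, o], [o, b, o, a, o]],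
  [[o, b, a, a, a], [b, o, z, a, z], [o, a, z, z, b], [o, a, b, z, z], [o, o, o, o, o]],
  [[z, z, o, o, b], [a, o, o, b, o], [b, z, z, a, o], [z, o, z, o, b], [o, b, b, o, o]],
  [[b, z, a, z, o], [a, z, z, b, b], [o, z, b, a, z], [z, a, z, z, z], [z, z, o, b, b]],
  [[o, a, z, z, b], [z, z, z, b, z], [o, a, o, z, z], [o, z, o, z, b], [z, b, a, z, o]],
  [[b, z, z, a, o], [z, z, a, z, z], [a, b, z, o, z], [z, b, z, o, b], [o, a, z, z, a]],
  [[b, b, o, a, a], [b, o, z, o, z], [o, a, z, z, a], [b, o, b, z, z], [o, b, b, o, o]],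
  [[b, b, o, a, b], [a, z, z, b, b], [o, a, o, b, o], [b, a, a, a, b], [a, z, z, a, o]],
  [[o, z, o, b, z], [a, a, a, z, z], [a, z, a, z, o], [b, a, o, o, o], [a, b, o, a, a]],
  [[z, b, z, b, o], [o, o, z, o, z], [b, o, o, a, o], [b, a, o, o, o], [z, a, b, a, z]],
  [[b, z, a, z, o], [z, o, b, z, a], [b, b, o, a, a], [z, z, b, b, a], [o, o, o, b, o]],
  [[o, a, z, z, b], [a, a, a, a, a], [a, b, z, o, z], [b, a, o, o, o], [a, b, o, z, z]],
  [[b, z, z, a, o], [a, o, o, a, a], [o, b, b, a, b], [z, z, b, b, a], [z, a, z, a, o]],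
  [[b, b, o, a, a], [o, a, a, b, a], [o, b, a, b, o], [b, z, b, b, z], [o, z, b, a, z]],
  [[b, b, o, a, b], [a, b, z, z, o], [z, b, b, z, o], [a, o, b, o, b], [z, b, z, o, o]],
  [[o, z, o, b, z], [o, z, z, b, a], [z, b, z, z, z], [z, z, b, a, o], [b, z, b, z, o]],
  [[o, b, a, a, a], [a, a, a, z, z], [a, b, o, a, a], [b, z, b, a, z], [a, z, a, z, o]],
  [[z, z, o, o, b], [a, z, z, z, z], [z, b, o, z, b], [z, b, o, o, z], [z, o, z, a, o]],
  [[o, z, o, o, z], [o, o, a, b, o], [o, b, b, a, b], [a, z, a, z, b], [o, a, o, z, z]],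
  [[b, a, o, a, o], [z, z, a, o, o], [a, z, a, z, o], [z, a, b, z, a], [o, b, b, b, o]],
  [[z, z, o, b, a], [a, o, b, o, a], [z, o, z, a, o], [o, z, z, o, b], [o, b, a, a, a]],
  [[o, o, o, z, z], [a, o, b, a, a], [a, b, o, z, z], [b, a, o, o, a], [b, a, o, a, o]],
  [[o, a, o, o, o], [o, z, b, z, a], [o, o, z, z, a], [a, z, z, o, b], [o, b, a, a, b]],
  [[a, z, b, z, o], [a, a, z, z, o], [z, z, z, a, z], [a, a, b, z, z], [z, b, o, z, a]],
  [[o, b, a, a, b], [b, o, a, b, o], [o, o, o, b, o], [z, o, z, o, b], [z, b, z, o, o]],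
  [[z, b, o, z, a], [z, z, a, a, b], [o, b, a, o, o], [o, b, b, o, b], [b, z, b, z, o]],
  [[o, z, b, a, z], [z, z, a, o, o], [o, z, z, a, a], [a, z, o, z, b], [z, b, z, z, z]],
  [[a, b, o, a, b], [a, o, b, o, a], [o, o, o, z, z], [b, b, z, z, a], [b, b, z, o, z]],
  [[z, z, o, b, b], [a, z, a, o, z], [o, b, a, a, b], [z, o, a, o, z], [a, o, o, a, o]],
  [[o, a, o, b, o], [a, o, a, b, a], [b, z, a, z, o], [b, b, b, b, b], [a, z, b, z, o]],
  [[b, o, o, a, o], [a, a, a, a, a], [o, b, b, a, b], [z, a, o, z, b], [z, b, o, z, a]],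
  [[b, b, o, a, a], [a, o, o, a, a], [o, a, o, z, z], [b, o, z, z, o], [a, b, z, b, z]],
  [[o, a, z, z, a], [a, b, a, z, z], [b, b, o, a, a], [o, a, z, a, z], [o, b, b, o, o]],
  [[o, a, o, b, o], [a, o, o, o, a], [b, b, o, a, b], [b, z, z, o, o], [a, z, z, a, o]],
  [[a, z, a, z, o], [a, o, b, b, b], [o, z, o, b, z], [b, b, b, z, z], [a, b, o, a, a]],
  [[b, b, o, a, a], [a, z, o, b, z], [o, z, o, o, z], [b, a, o, a, b], [b, o, o, a, o]],
  [[o, b, o, a, o], [b, o, a, b, o], [z, o, b, a, z], [z, o, o, o, z], [b, b, o, a, a]],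
  [[z, b, z, o, o], [z, a, b, b, z], [o, b, b, a, b], [o, o, b, o, b], [a, b, z, o, z]],
  [[b, z, b, z, o], [o, o, a, b, o], [o, a, o, z, z], [b, z, b, b, z], [o, b, b, a, b]],
  [[a, b, o, a, b], [o, o, z, a, z], [o, o, z, z, b], [b, b, b, z, z], [o, b, a, b, o]],
  [[z, z, o, b, a], [b, o, a, b, o], [a, z, b, z, o], [b, o, b, b, b], [z, b, b, z, o]],
  [[o, z, a, a, z], [z, z, a, a, b], [o, z, z, a, b], [o, z, a, z, b], [z, b, z, z, z]],
  [[o, a, z, z, b], [b, z, z, b, a], [o, o, o, b, o], [o, z, a, z, b], [o, b, b, a, a]],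
  [[a, o, o, a, o], [z, z, a, a, b], [b, z, b, z, o], [z, a, b, z, o], [o, b, a, o, o]],
  [[a, b, o, z, z], [a, z, o, b, z], [z, z, z, z, o], [o, a, z, a, z], [z, a, b, a, z]],
  [[o, o, o, z, z], [a, o, b, b, b], [a, b, o, a, a], [o, z, o, z, b], [o, z, o, b, z]],
  [[o, z, a, a, z], [z, b, b, b, z], [o, a, o, b, o], [o, a, b, o, o], [z, z, o, o, b]],
  [[o, o, z, z, a], [a, b, a, o, a], [b, b, z, b, z], [b, a, a, o, a], [b, b, o, z, z]],
  [[o, b, b, o, o], [o, a, a, b, a], [o, z, z, a, b], [o, z, o, z, b], [o, o, z, z, b]],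
  [[o, b, b, a, a], [o, o, a, b, b], [o, a, o, o, o], [z, b, z, o, b], [z, b, z, b, o]],
  [[b, z, b, z, o], [z, o, z, z, z], [b, z, z, a, o], [z, z, b, a, o], [o, z, o, b, z]],
  [[z, z, z, z, o], [o, o, z, a, z], [b, b, o, z, z], [b, z, o, o, z], [z, o, a, a, z]],
  [[o, b, b, o, o], [o, o, a, z, z], [o, a, o, o, o], [z, a, b, z, a], [z, a, b, a, z]],
  [[o, b, b, a, a], [a, b, z, z, o], [a, z, b, z, o], [o, z, z, o, b], [o, o, o, b, o]],
  [[z, z, z, a, z], [z, z, a, z, z], [o, z, z, z, z], [z, z, z, z, b], [z, b, z, z, z]],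
  [[b, b, o, z, z], [a, z, b, b, z], [z, z, z, z, o], [a, a, z, b, z], [z, o, a, a, z]],
  [[o, a, z, z, b], [o, b, a, b, a], [z, b, z, o, o], [z, a, a, z, b], [b, b, o, a, b]],
  [[o, z, z, a, a], [o, z, b, z, a], [o, z, b, a, z], [z, z, b, a, a], [z, b, z, z, z]],
  [[o, o, o, z, z], [a, a, z, z, o], [a, b, o, a, b], [b, a, o, a, b], [b, b, z, o, z]],
  [[o, b, a, a, b], [z, b, o, b, z], [z, z, o, b, b], [b, z, b, a, z], [a, o, o, a, o]],
  [[b, b, o, z, z], [a, a, z, z, b], [o, b, b, a, b], [b, o, b, a, b], [b, b, z, b, z]],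
  [[z, b, a, z, o], [a, z, z, z, z], [z, o, b, a, z], [z, a, z, b, b], [z, z, o, b, b]],
  [[o, a, o, z, z], [z, z, z, z, a], [z, o, b, a, z], [b, z, b, a, z], [a, b, z, o, z]],
  [[a, b, z, o, z], [z, o, z, a, a], [a, a, o, a, o], [z, b, o, o, z], [o, b, b, a, b]],
  [[z, b, z, z, z], [z, z, z, b, z], [z, z, z, z, o], [z, z, b, z, z], [o, z, z, z, z]],
  [[b, b, z, o, z], [z, z, a, z, z], [z, b, z, o, o], [b, b, z, z, o], [o, z, z, a, a]],
  [[b, b, o, z, z], [a, a, z, z, o], [z, b, o, z, a], [o, z, a, z, b], [z, z, z, a, z]],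
  [[o, a, z, z, b], [z, o, z, o, a], [a, b, z, b, z], [b, z, z, o, a], [z, z, o, z, z]],
  [[a, o, o, a, o], [a, z, b, b, z], [o, o, o, b, o], [b, z, z, o, o], [a, b, z, b, z]],
  [[a, b, o, z, z], [o, b, a, b, a], [o, b, a, o, o], [b, b, b, z, z], [o, b, a, a, b]],
  [[a, b, z, b, z], [b, a, a, b, a], [o, z, z, a, a], [b, z, o, o, z], [o, o, o, b, o]],
  [[o, b, a, a, b], [b, o, a, z, z], [o, o, o, z, z], [a, o, b, o, b], [o, b, a, o, o]],
  [[b, z, a, z, o], [o, z, z, b, a], [o, b, a, a, b], [b, b, z, z, o], [o, a, o, o, o]],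
  [[o, b, b, a, b], [z, z, a, a, o], [b, z, z, a, o], [b, a, a, b, b], [z, a, z, a, o]],
  [[o, a, o, z, z], [a, o, o, o, a], [b, b, o, z, z], [b, a, a, o, o], [a, o, o, a, o]],
  [[a, z, z, a, o], [b, z, o, z, a], [o, b, b, a, a], [b, b, b, a, b], [o, a, z, z, b]],
  [[a, b, o, a, a], [a, z, z, b, o], [o, o, o, o, o], [b, a, o, b, b], [b, z, z, a, o]],
  [[o, b, b, a, a], [z, o, z, o, a], [z, o, z, a, o], [b, o, b, b, b], [b, b, o, a, a]],
  [[o, b, a, o, o], [b, o, z, o, z], [z, a, a, a, z], [z, o, z, o, b], [b, b, o, a, b]],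
  [[z, a, b, a, z], [a, o, b, b, o], [z, z, o, b, b], [o, b, b, o, b], [o, z, o, b, z]],
  [[a, z, a, z, o], [z, o, z, z, z], [a, z, z, a, o], [z, z, b, b, a], [o, z, o, o, z]],
  [[o, b, b, a, a], [z, a, b, b, z], [z, z, o, o, a], [b, z, b, b, z], [b, a, o, a, o]],
  [[o, o, o, o, o], [o, o, a, b, o], [o, z, b, a, z], [z, b, a, o, z], [z, z, o, b, a]],
  [[z, z, o, b, b], [z, o, a, z, o], [o, b, b, b, o], [o, z, o, z, b], [b, a, o, a, o]],
  [[o, b, a, b, o], [b, z, z, b, a], [o, b, a, a, a], [z, b, z, o, b], [z, z, o, b, a]],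
  [[z, z, z, z, o], [a, a, a, z, z], [z, a, a, a, z], [a, a, z, a, z], [o, z, o, o, z]],
  [[z, b, z, o, o], [a, z, z, z, z], [z, z, o, b, b], [z, a, o, z, b], [z, o, b, a, z]],
  [[o, z, z, a, a], [o, o, a, b, o], [o, a, o, b, o], [o, z, z, o, b], [o, b, b, b, o]],
  [[z, z, o, o, b], [a, b, a, o, a], [z, a, a, a, z], [o, a, b, o, o], [o, z, a, a, z]],
  [[o, z, o, o, z], [z, a, b, b, z], [b, a, o, a, o], [b, a, a, o, o], [z, z, o, o, a]],
  [[b, a, o, a, o], [a, a, a, z, z], [o, b, a, a, b], [b, a, o, b, b], [a, b, o, z, z]],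
  [[z, z, o, b, a], [a, z, z, z, z], [z, b, o, z, a], [z, o, a, o, z], [z, a, z, a, o]],
  [[o, a, o, o, o], [z, o, z, o, a], [b, b, o, a, a], [b, a, a, o, o], [z, o, z, a, o]],
  [[a, z, b, z, o], [o, z, b, z, a], [o, b, o, a, o], [b, b, b, b, b], [o, a, o, b, o]],
  [[z, b, o, z, a], [b, o, a, z, z], [z, o, a, a, z], [b, a, o, a, b], [o, o, o, b, o]],
  [[o, z, b, a, z], [b, o, z, o, z], [z, a, b, a, z], [z, z, z, z, b], [a, b, o, z, z]],
  [[a, b, o, a, b], [a, o, b, b, o], [o, o, o, b, o], [z, a, z, b, b], [z, a, z, a, o]],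
  [[z, z, o, b, b], [o, z, b, z, a], [z, b, z, z, z], [b, z, z, o, o], [o, z, b, a, z]],
  [[a, b, z, o, z], [a, o, o, b, o], [z, o, a, a, z], [o, o, b, o, b], [z, b, z, o, o]],
  [[o, b, b, a, b], [a, b, a, z, z], [b, b, o, a, b], [b, z, b, b, z], [b, z, b, z, o]],
  [[o, o, o, z, z], [z, z, z, z, a], [z, a, a, a, z], [b, z, b, b, z], [b, b, z, b, z]],
  [[o, a, o, o, o], [o, o, z, a, z], [o, z, b, a, z], [a, o, b, o, b], [o, z, z, a, b]],
  [[a, z, b, z, o], [z, o, o, z, a], [a, b, o, a, b], [z, z, b, a, o], [o, a, o, o, o]],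
  [[z, b, o, z, a], [z, b, z, b, a], [o, z, z, z, z], [z, z, b, a, o], [z, a, b, a, z]],
  [[o, z, b, a, z], [a, o, b, o, a], [b, o, o, a, o], [b, z, b, b, z], [b, b, o, a, a]],
  [[a, b, o, a, b], [z, b, b, b, z], [b, b, o, a, a], [z, b, a, o, z], [o, b, o, a, o]],
  [[z, z, o, b, b], [o, b, a, b, a], [a, z, a, z, o], [b, a, a, a, b], [z, b, o, z, b]],
  [[a, b, z, o, z], [a, o, b, b, o], [o, b, b, a, a], [b, a, b, o, b], [b, b, z, b, z]],
  [[o, b, b, a, b], [z, o, a, z, b], [o, o, o, o, o], [a, b, b, o, b], [z, b, a, z, o]],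
  [[b, a, o, a, o], [a, o, o, o, a], [z, b, o, z, b], [o, z, o, z, b], [z, z, o, b, b]],
  [[z, z, o, b, a], [a, o, b, b, b], [a, z, z, a, o], [z, b, z, o, b], [o, b, a, b, o]],
  [[o, z, o, o, z], [z, b, b, b, z], [o, o, o, z, z], [a, a, z, a, z], [z, z, z, z, o]],
  [[z, o, b, a, z], [z, z, a, o, o], [o, z, z, z, z], [z, a, o, z, b], [z, b, z, o, o]],
  [[o, b, b, b, o], [a, b, a, o, a], [b, b, o, a, b], [o, z, z, o, b], [o, z, z, a, a]],
  [[o, b, o, a, o], [o, a, a, b, a], [z, z, o, b, b], [z, z, b, b, o], [a, a, o, a, o]],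
  [[b, o, o, a, o], [o, o, a, b, b], [o, b, a, b, o], [b, z, a, o, z], [o, z, o, o, z]],
  [[o, b, b, a, b], [z, b, z, b, a], [o, b, b, o, o], [a, z, z, o, b], [z, z, o, o, b]],
  [[o, a, o, z, z], [b, a, a, b, a], [o, b, b, a, a], [a, a, b, z, z], [o, b, b, b, o]],
  [[o, o, z, z, b], [b, z, o, z, a], [z, z, z, a, z], [z, a, b, z, o], [b, b, o, z, z]],
  [[a, z, b, z, o], [z, o, a, z, b], [b, b, o, z, z], [z, z, z, o, z], [o, o, z, z, b]],
  [[o, z, z, a, b], [b, o, z, o, z], [o, a, z, z, b], [z, z, b, z, z], [z, b, z, b, o]],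
  [[b, b, o, z, z], [a, o, o, a, a], [o, a, o, o, o], [z, o, a, o, z], [z, b, o, z, b]],
  [[o, o, z, z, b], [b, z, z, b, a], [z, a, z, a, o], [z, z, b, z, z], [b, b, z, b, z]],
  [[z, b, z, b, o], [b, o, a, b, b], [a, o, o, a, o], [b, b, z, z, o], [z, b, a, z, o]],
  [[o, o, o, o, o], [o, a, a, b, a], [o, b, b, a, b], [z, a, b, z, o], [z, b, a, z, o]],
  [[o, b, b, o, o], [o, o, a, b, b], [o, a, o, z, z], [o, a, z, a, z], [o, a, z, z, a]],
  [[z, o, z, a, o], [b, o, z, a, z], [b, z, z, a, o], [b, o, z, z, o], [z, z, o, z, z]],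
  [[o, a, o, b, o], [a, o, o, b, o], [b, b, o, z, z], [a, a, z, a, z], [o, o, z, z, a]],
  [[z, b, b, z, o], [z, z, a, o, b], [o, a, o, o, o], [o, a, b, o, a], [a, z, b, z, o]],
  [[z, b, z, z, z], [a, z, b, b, z], [a, z, b, z, o], [z, z, b, b, o], [o, z, z, a, b]],
  [[z, a, a, a, z], [z, z, a, a, b], [o, z, z, z, z], [z, a, a, z, b], [z, b, z, b, o]],
  [[o, z, b, a, z], [b, o, a, z, z], [z, z, z, z, o], [z, o, a, o, z], [a, b, z, b, z]],
  [[a, b, o, a, b], [z, b, z, b, a], [z, b, z, o, o], [b, b, b, a, b], [o, b, a, a, b]],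
  [[z, a, b, a, z], [z, z, z, z, a], [o, z, b, a, z], [o, a, z, a, z], [a, b, o, z, z]],
  [[o, o, o, b, o], [z, o, z, a, a], [a, b, o, a, b], [b, a, o, o, a], [z, a, z, a, o]],
  [[z, b, z, z, z], [a, z, z, b, b], [z, z, o, b, b], [a, z, o, z, b], [o, z, b, a, z]],
  [[z, o, a, a, z], [b, b, a, b, a], [a, b, z, o, z], [b, a, a, o, a], [z, b, z, o, o]],
  [[b, b, o, a, b], [a, z, a, a, z], [o, b, b, a, b], [b, o, b, z, z], [b, z, b, z, o]],
  [[a, b, o, a, b], [a, o, a, b, a], [z, o, b, a, z], [a, a, b, o, o], [z, a, a, a, z]],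
  [[z, z, o, b, a], [a, a, a, a, a], [z, o, b, a, z], [a, a, b, o, a], [o, z, b, a, z]],
  [[o, z, a, a, z], [a, o, o, a, a], [a, a, o, a, o], [b, z, b, a, z], [a, b, o, a, b]],
  [[b, b, z, b, z], [z, b, b, b, z], [z, z, z, z, o], [b, z, b, b, z], [o, o, o, z, z]],
  [[z, b, a, z, o], [z, z, a, o, o], [z, b, z, o, o], [z, b, a, o, z], [o, z, z, z, z]],
  [[o, o, o, o, o], [z, o, b, z, a], [z, b, o, z, a], [b, a, a, o, a], [b, o, o, a, o]],
  [[o, b, b, o, o], [a, b, z, z, b], [a, b, z, b, z], [b, o, b, z, z], [b, b, o, a, a]],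
  [[b, o, o, a, o], [a, o, o, a, a], [o, z, z, a, b], [b, b, z, z, a], [a, z, a, z, o]],
  [[b, a, o, a, o], [a, z, o, b, z], [o, a, o, o, o], [b, z, z, o, a], [b, b, z, o, z]],
  [[o, o, z, z, a], [b, o, a, b, b], [z, b, a, z, o], [z, a, z, a, b], [a, o, o, a, o]],
  [[o, b, b, a, a], [a, o, a, b, a], [a, b, z, o, z], [b, a, o, o, a], [b, b, z, b, z]],
  [[o, b, b, a, b], [b, b, a, b, a], [z, b, z, o, o], [z, b, o, o, z], [a, b, z, o, z]],
  [[o, a, o, z, z], [a, z, a, a, z], [b, z, b, z, o], [a, a, b, o, a], [o, b, b, a, b]],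
  [[o, o, z, z, a], [z, o, o, z, a], [b, z, b, z, o], [b, b, b, z, z], [z, z, z, a, z]],
  [[z, z, z, a, z], [z, o, z, z, z], [z, z, z, z, o], [b, z, z, z, z], [z, z, o, z, z]],
  [[z, a, z, a, o], [z, b, b, b, z], [o, b, a, o, o], [a, a, b, o, a], [a, b, z, b, z]],
  [[z, b, z, z, z], [a, z, o, b, z], [b, z, a, z, o], [z, z, b, a, a], [o, z, z, a, a]],
  [[b, b, z, o, z], [b, o, a, b, o], [o, o, z, z, b], [b, a, o, a, b], [o, o, o, z, z]],
  [[z, b, a, z, o], [a, a, a, a, a], [z, b, o, z, a], [a, b, b, o, b], [o, b, b, a, b]],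
  [[o, a, o, z, z], [z, o, b, z, a], [z, z, z, a, z], [b, o, z, z, a], [a, z, a, z, o]],
  [[a, b, z, o, z], [a, b, z, z, b], [z, z, o, z, z], [a, z, z, o, b], [z, o, z, a, o]],
  [[b, b, z, o, z], [o, b, a, b, a], [o, z, z, a, b], [b, z, a, o, z], [o, a, o, o, o]],
  [[b, b, o, z, z], [b, a, a, b, a], [o, b, b, b, o], [b, o, b, z, z], [o, b, b, a, a]],
  [[o, a, z, z, b], [b, o, a, z, z], [o, b, a, a, a], [o, a, z, b, z], [o, o, o, o, o]],
  [[z, z, o, z, z], [o, z, z, b, a], [a, b, z, o, z], [b, o, z, z, o], [z, o, z, a, o]],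
  [[o, z, a, a, z], [z, z, a, a, o], [a, b, o, a, a], [b, o, b, a, b], [z, a, a, a, z]],
  [[o, a, o, z, z], [b, o, z, o, z], [o, b, b, o, o], [a, a, b, o, o], [o, a, z, z, a]],
  [[b, z, z, a, o], [a, b, z, z, b], [z, o, z, a, o], [o, a, z, b, z], [z, z, o, z, z]],
  [[b, b, o, z, z], [o, o, z, o, z], [o, a, o, b, o], [b, a, a, o, a], [o, o, z, z, a]],
  [[z, z, z, a, z], [a, a, z, z, b], [o, o, o, z, z], [z, a, a, z, b], [b, z, b, z, o]],
  [[z, z, o, z, z], [z, z, z, b, z], [o, z, z, z, z], [z, a, z, z, z], [z, z, z, z, o]],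
  [[b, b, z, o, z], [a, o, o, o, a], [z, o, b, a, z], [o, a, b, o, o], [z, o, z, a, o]],
  [[z, b, b, z, o], [a, o, b, b, b], [a, a, o, a, o], [z, a, b, z, a], [o, a, o, b, o]],
  [[z, b, z, o, o], [b, o, z, a, z], [a, a, o, a, o], [b, a, a, o, a], [z, o, a, a, z]],
  [[o, z, o, b, z], [b, o, a, b, b], [o, b, a, a, a], [o, z, o, z, b], [o, o, o, z, z]],
  [[z, o, a, a, z], [z, o, a, z, o], [z, z, o, o, b], [z, b, z, o, b], [o, z, z, z, z]],
  [[o, o, o, o, o], [a, b, z, z, o], [a, b, z, o, z], [o, a, b, z, z], [o, b, a, a, a]],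
  [[z, b, a, z, o], [b, a, a, b, a], [a, b, o, a, a], [b, b, z, z, o], [z, b, z, b, o]],
  [[o, a, z, z, a], [b, o, a, z, z], [z, b, o, z, b], [z, z, z, o, z], [b, z, a, z, o]],
  [[o, z, a, a, z], [a, z, z, b, b], [a, b, z, b, z], [b, b, b, a, b], [a, o, o, a, o]],
  [[o, b, b, o, o], [z, z, a, a, o], [z, a, z, a, o], [b, a, a, o, a], [b, z, z, a, o]],
  [[o, b, b, a, a], [a, o, o, o, a], [a, o, o, a, o], [b, o, b, z, z], [b, b, o, z, z]],
  [[b, b, o, z, z], [a, o, o, b, b], [o, a, o, z, z], [b, a, a, a, b], [a, o, o, a, o]],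
  [[o, a, o, o, o], [a, o, b, b, o], [b, z, z, a, o], [b, b, z, z, o], [b, z, a, z, o]],
  [[o, z, z, z, z], [z, z, a, o, b], [z, b, o, z, a], [z, o, z, o, b], [z, a, b, a, z]],
  [[z, z, z, z, o], [a, z, z, z, z], [z, z, z, a, z], [z, a, z, z, z], [z, z, o, z, z]],
  [[z, b, z, o, o], [a, z, z, b, b], [z, z, o, z, z], [a, a, z, b, z], [o, o, z, z, a]],
  [[z, b, z, o, o], [a, a, a, o, a], [a, b, o, a, b], [z, o, z, o, b], [o, b, a, a, b]],
  [[b, z, b, z, o], [a, o, b, a, a], [z, z, o, o, a], [o, b, b, o, b], [z, b, o, z, a]],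
  [[a, o, o, a, o], [a, o, b, b, o], [o, z, o, b, z], [z, o, a, o, z], [z, z, o, b, b]],
  [[o, a, z, z, a], [o, z, z, b, a], [z, o, z, a, o], [z, z, b, z, z], [a, b, z, o, z]],
  [[b, b, z, b, z], [o, o, a, z, z], [o, a, o, b, o], [b, b, z, z, o], [o, b, b, a, b]],
  [[z, o, a, a, z], [a, o, o, b, b], [z, z, o, o, a], [a, o, b, o, b], [o, z, o, o, z]],
  [[b, b, o, a, b], [a, a, a, a, a], [o, z, b, a, z], [z, z, b, a, o], [z, o, b, a, z]],
  [[b, b, z, o, z], [z, a, z, b, a], [a, b, o, a, a], [z, b, a, o, z], [o, b, b, b, o]],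
  [[z, z, o, o, a], [z, z, a, o, o], [o, b, o, a, o], [o, o, b, o, b], [b, o, o, a, o]],
  [[o, a, o, b, o], [b, z, z, b, a], [o, z, z, a, a], [a, a, b, o, a], [o, b, b, b, o]],
  [[b, o, o, a, o], [z, z, a, a, b], [a, a, o, a, o], [z, z, b, a, a], [o, b, o, a, o]],
  [[a, b, o, a, a], [a, o, o, o, a], [z, o, z, a, o], [a, a, z, b, z], [z, o, b, a, z]],
  [[z, b, o, z, b], [a, o, b, b, b], [o, a, o, b, o], [z, a, a, z, b], [a, a, o, a, o]],
  [[z, b, z, b, o], [z, b, b, b, z], [z, b, b, z, o], [z, z, b, b, o], [o, z, z, z, z]],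
  [[b, z, a, z, o], [z, z, a, o, o], [z, b, z, z, z], [b, z, a, o, z], [o, z, z, a, a]],
  [[b, a, o, a, o], [z, o, o, z, a], [b, b, o, a, b], [z, a, z, b, b], [o, a, z, z, b]],
  [[z, z, o, b, a], [z, o, z, z, z], [o, z, o, b, z], [a, z, a, z, b], [b, z, z, a, o]],
  [[o, z, o, o, z], [b, z, b, z, a], [z, z, o, o, b], [z, a, z, z, z], [a, z, z, a, o]],
  [[z, o, b, a, z], [z, a, z, b, a], [o, b, b, b, o], [a, a, z, b, z], [a, b, o, a, a]],
  [[o, b, b, b, o], [a, b, a, z, z], [b, b, o, z, z], [o, b, b, o, b], [o, b, b, a, a]],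
  [[o, b, o, a, o], [a, o, o, o, a], [o, o, z, z, b], [b, o, z, z, o], [o, b, a, o, o]],
  [[b, o, o, a, o], [a, o, b, b, b], [z, b, z, b, o], [a, a, z, a, z], [z, a, b, a, z]],
  [[a, z, b, z, o], [a, b, a, a, a], [z, z, o, b, a], [o, a, b, o, a], [z, b, b, z, o]],
  [[o, z, z, a, b], [b, z, o, z, a], [o, z, a, a, z], [z, z, b, b, o], [z, b, z, z, z]],
  [[o, o, z, z, b], [a, o, o, a, a], [a, z, a, z, o], [a, b, b, o, b], [o, z, z, a, b]],
  [[z, b, z, b, o], [a, o, o, b, b], [z, o, z, a, o], [a, a, b, o, o], [o, a, o, o, o]],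
  [[o, o, o, o, o], [o, z, z, b, a], [o, z, z, a, b], [o, a, b, o, o], [o, b, a, o, o]],
  [[z, o, z, a, o], [a, b, a, a, a], [o, b, b, a, a], [z, a, z, a, b], [b, b, o, a, a]],
  [[o, a, o, b, o], [b, z, o, z, a], [o, o, o, o, o], [a, z, o, z, b], [o, b, o, a, o]],
  [[z, o, a, a, z], [a, z, z, z, z], [z, o, z, a, o], [z, z, b, b, a], [z, b, o, z, b]],
  [[o, a, o, z, z], [b, o, z, a, z], [o, z, o, b, z], [z, b, a, o, z], [z, z, z, z, o]],
  [[o, o, z, z, b], [a, b, z, z, b], [o, b, o, a, o], [b, a, a, a, b], [o, b, a, o, o]],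
  [[a, z, b, z, o], [a, b, a, o, a], [o, o, o, o, o], [b, a, b, o, b], [b, z, a, z, o]],
  [[o, z, z, a, b], [b, z, b, z, a], [o, b, b, o, o], [a, b, b, o, b], [o, o, z, z, b]],
  [[o, o, z, z, b], [a, o, b, a, a], [o, b, b, b, o], [b, a, b, o, b], [o, a, z, z, a]],
  [[z, b, z, b, o], [z, b, o, b, z], [o, b, a, a, a], [a, b, b, o, b], [b, b, z, b, z]],
  [[o, b, b, o, o], [a, z, a, o, z], [a, b, o, a, b], [o, o, b, o, b], [o, z, a, a, z]],
  [[z, o, z, a, o], [z, z, a, a, o], [z, o, a, a, z], [b, z, z, z, z], [z, b, o, z, b]],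
  [[z, o, a, a, z], [o, o, a, z, z], [b, b, z, o, z], [b, z, o, o, z], [z, z, z, z, o]],
  [[o, z, z, z, z], [z, o, z, o, a], [z, z, o, o, a], [z, o, o, o, z], [z, b, b, z, o]],
  [[o, b, b, b, o], [a, z, z, b, b], [a, z, z, a, o], [a, a, b, o, a], [o, a, o, b, o]],
  [[o, b, o, a, o], [b, b, a, b, a], [z, z, o, o, a], [z, z, b, a, a], [b, o, o, a, o]],
  [[b, o, o, a, o], [a, z, a, a, z], [o, z, b, a, z], [b, a, o, a, b], [b, b, o, a, a]],
  [[a, a, o, a, o], [a, b, a, o, a], [o, b, a, a, a], [z, a, a, z, b], [z, b, o, z, b]],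
  [[o, z, z, z, z], [z, o, o, z, a], [z, a, a, a, z], [z, z, b, b, o], [z, b, z, b, o]],
  [[o, z, z, a, a], [z, o, z, z, z], [z, z, o, b, b], [b, z, a, o, z], [b, z, a, z, o]],
  [[o, b, a, b, o], [a, z, o, b, z], [b, o, o, a, o], [a, a, b, o, o], [o, z, o, o, z]],
  [[z, a, a, a, z], [b, o, a, b, o], [b, b, o, a, a], [b, a, b, o, b], [z, o, b, a, z]],
  [[z, z, z, z, o], [z, z, a, z, z], [z, b, z, z, z], [z, z, z, o, z], [o, z, z, z, z]],
  [[z, b, z, o, o], [a, a, z, z, b], [b, b, z, o, z], [z, z, b, z, z], [o, z, z, a, a]],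
  [[z, b, o, z, a], [b, z, o, z, a], [b, b, o, z, z], [b, b, z, z, a], [z, z, z, a, z]],
  [[a, b, z, b, z], [a, z, z, b, o], [o, a, z, z, b], [z, a, z, a, b], [z, z, o, z, z]],
  [[o, z, z, a, b], [z, o, z, o, a], [z, z, o, z, z], [b, o, z, z, a], [a, b, z, b, z]],
  [[o, o, o, b, o], [b, o, z, o, z], [o, z, a, a, z], [o, b, b, o, b], [o, z, z, a, a]],
  [[o, b, a, o, o], [a, o, b, b, o], [b, a, o, a, o], [o, a, b, z, z], [o, o, o, z, z]],
  [[z, z, z, a, z], [b, o, a, z, z], [b, z, a, z, o], [b, o, z, z, o], [z, b, o, z, b]],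
  [[z, z, o, z, z], [z, b, z, b, a], [o, o, z, z, b], [a, a, z, a, z], [a, z, z, a, o]],
  [[a, b, z, b, z], [a, z, o, b, z], [z, a, b, a, z], [o, a, b, z, z], [z, z, z, z, o]],
  [[o, z, z, a, a], [z, o, z, a, a], [z, z, o, z, z], [b, b, z, z, o], [b, b, z, o, z]],
  [[o, o, o, z, z], [o, z, o, z, a], [o, o, z, z, a], [z, z, z, o, z], [z, b, b, z, o]],
  [[z, z, o, o, a], [z, b, b, b, z], [o, z, z, z, z], [z, a, z, a, b], [z, b, b, z, o]],
  [[z, a, z, a, o], [b, o, a, b, o], [z, b, z, o, o], [b, a, o, o, a], [o, o, o, b, o]],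
  [[z, b, b, z, o], [a, a, a, z, z], [z, z, z, a, z], [a, z, a, z, b], [o, o, z, z, a]],
  [[z, b, z, z, z], [a, z, z, z, z], [z, z, o, z, z], [z, z, z, z, b], [z, z, z, a, z]],
  [[b, b, o, a, b], [b, z, z, b, a], [o, b, b, b, o], [b, o, b, a, b], [o, z, z, a, a]],
  [[o, b, o, a, o], [a, o, o, b, b], [a, b, z, o, z], [a, a, z, a, z], [o, b, a, a, b]],
  [[o, o, o, o, o], [a, o, b, a, a], [a, b, o, a, a], [b, z, z, o, a], [b, z, z, a, o]],
  [[o, b, b, o, o], [z, b, o, b, z], [z, b, o, z, b], [b, o, b, b, b], [b, b, o, z, z]],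
  [[o, z, z, a, b], [b, o, a, b, b], [o, o, o, o, o], [a, z, z, o, b], [o, b, a, o, o]],
  [[o, a, o, o, o], [z, o, a, z, o], [o, b, b, o, o], [a, a, b, z, z], [z, a, b, a, z]],
  [[z, a, a, a, z], [a, z, a, a, z], [o, o, o, z, z], [z, z, z, z, b], [b, b, z, b, z]],
  [[z, z, o, b, b], [z, a, o, b, z], [o, z, z, z, z], [z, a, z, b, b], [z, b, a, z, o]],
  [[o, o, o, o, o], [z, z, a, o, b], [z, o, b, a, z], [b, z, a, o, z], [b, b, o, a, b]],
  [[o, b, b, o, o], [a, z, b, b, z], [a, a, o, a, o], [o, a, b, o, a], [o, z, o, b, z]],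
  [[b, z, z, a, o], [z, b, z, b, a], [z, z, o, o, b], [b, a, a, o, a], [o, b, b, o, o]],
  [[z, z, z, z, o], [a, z, a, o, z], [a, b, z, o, z], [z, b, a, o, z], [o, a, o, z, z]],
  [[a, b, o, z, z], [z, b, o, b, z], [a, b, z, b, z], [z, z, z, z, b], [o, z, b, a, z]],
  [[z, a, z, a, o], [a, a, a, o, a], [o, b, a, a, b], [z, a, z, b, b], [a, b, o, a, b]],
  [[o, b, a, b, o], [b, o, a, z, z], [o, o, o, b, o], [z, a, b, z, o], [z, o, a, a, z]],
  [[z, a, a, a, z], [z, b, z, b, a], [o, b, a, o, o], [o, a, z, a, z], [b, b, o, a, b]],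
  [[z, z, o, o, b], [o, o, a, b, b], [b, z, a, z, o], [b, b, b, a, b], [z, b, a, z, o]],
  [[o, b, b, b, o], [a, o, a, b, a], [o, o, z, z, b], [b, a, o, b, b], [o, a, z, z, a]],
  [[o, o, z, z, a], [z, o, z, a, a], [b, b, z, o, z], [b, z, z, o, o], [z, z, o, z, z]],
  [[z, z, z, a, z], [o, z, o, z, a], [z, b, b, z, o], [b, b, b, z, z], [o, o, z, z, a]],
  [[z, b, z, z, z], [z, z, a, o, b], [o, z, o, b, z], [a, z, z, o, b], [b, z, b, z, o]],
  [[b, b, z, o, z], [a, z, b, b, z], [z, o, a, a, z], [a, a, b, z, z], [z, z, z, z, o]],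
  [[z, z, z, z, o], [a, z, a, a, z], [b, b, z, b, z], [z, o, o, o, z], [o, o, o, z, z]],
  [[z, b, z, o, o], [z, a, o, b, z], [z, b, a, z, o], [z, z, b, a, a], [o, z, z, z, z]],
  [[o, b, a, o, o], [o, o, a, b, o], [z, a, z, a, o], [z, o, o, o, z], [a, b, z, b, z]],
  [[z, a, b, a, z], [a, z, a, o, z], [a, o, o, a, o], [z, z, b, a, a], [o, b, a, a, b]],
  [[o, o, o, o, o], [a, o, a, b, a], [a, z, b, z, o], [b, o, b, a, b], [b, z, a, z, o]],
  [[z, b, b, z, o], [z, z, a, a, b], [z, b, z, b, o], [z, o, o, o, z], [o, z, z, z, z]],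
  [[z, b, z, o, o], [z, o, o, z, a], [o, a, z, z, b], [a, o, b, o, b], [b, b, o, a, b]],
  [[o, z, o, b, z], [z, b, o, b, z], [a, o, o, a, o], [b, a, o, o, a], [z, z, o, b, b]],
  [[z, o, a, a, z], [a, a, a, o, a], [a, b, o, z, z], [z, a, b, z, o], [o, b, a, b, o]],
  [[z, b, a, z, o], [z, z, a, a, o], [o, o, o, b, o], [a, a, b, o, o], [b, z, a, z, o]],
  [[o, a, z, z, a], [a, o, o, o, a], [o, b, a, o, o], [b, a, b, o, b], [o, o, z, z, b]],
  [[b, a, o, a, o], [a, o, o, b, b], [o, z, o, o, z], [z, b, o, o, z], [z, z, o, o, a]],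
  [[b, z, z, a, o], [z, z, a, o, b], [b, z, b, z, o], [z, a, z, z, z], [o, z, o, b, z]],
  [[z, z, z, z, o], [b, o, z, o, z], [a, b, o, z, z], [b, z, a, o, z], [z, a, b, a, z]],
  [[z, b, z, o, o], [a, o, b, b, o], [z, a, z, a, o], [o, a, b, o, a], [o, o, o, b, o]],
  [[z, z, o, z, z], [z, z, z, z, a], [z, b, z, z, z], [b, z, z, z, z], [z, z, z, a, z]],
  [[a, o, o, a, o], [o, o, a, z, z], [o, b, b, b, o], [b, a, a, o, o], [o, a, o, z, z]],
  [[a, b, o, z, z], [a, b, z, z, o], [o, b, a, a, a], [b, b, b, b, b], [a, b, z, o, z]],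
  [[o, a, o, b, o], [b, b, a, b, a], [o, b, a, a, a], [z, a, b, z, a], [z, b, b, z, o]],
  [[a, z, a, z, o], [a, z, a, a, z], [z, z, o, o, b], [o, z, z, o, b], [z, b, z, z, z]],
  [[a, b, o, a, a], [a, z, a, o, z], [o, b, a, a, a], [b, b, b, z, z], [a, z, a, z, o]],
  [[z, b, o, z, b], [z, a, b, b, z], [z, z, o, o, b], [b, z, z, z, z], [z, o, z, a, o]],
  [[o, b, b, a, b], [o, z, o, z, a], [o, z, o, o, z], [a, a, b, o, a], [o, a, o, z, z]],
  [[a, z, a, z, o], [z, o, a, z, o], [b, a, o, a, o], [z, z, b, a, a], [o, b, b, b, o]],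
  [[z, o, z, a, o], [b, z, z, b, a], [z, z, o, b, a], [b, a, o, a, b], [o, b, a, a, a]],
  [[a, b, o, a, b], [a, z, b, b, z], [o, z, o, b, z], [b, a, a, b, b], [a, a, o, a, o]],
  [[z, z, o, o, a], [o, b, a, b, a], [z, o, a, a, z], [b, a, a, o, o], [o, z, o, o, z]],
  [[z, b, b, z, o], [a, a, z, z, b], [b, z, b, z, o], [z, z, z, o, z], [o, o, o, z, z]],
  [[z, a, b, a, z], [a, o, o, a, a], [z, b, o, z, b], [a, a, b, z, z], [o, a, o, o, o]],
  [[o, o, o, b, o], [a, o, o, b, b], [a, z, z, a, o], [b, o, z, z, a], [a, z, b, z, o]],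
  [[b, z, z, a, o], [o, z, b, z, a], [o, b, a, a, b], [b, o, b, b, b], [o, o, z, z, a]],
  [[z, a, z, a, o], [z, z, a, o, b], [z, a, b, a, z], [b, z, z, z, z], [z, b, o, z, a]],
  [[b, b, z, o, z], [a, z, z, b, b], [o, o, z, z, a], [z, a, z, b, b], [z, z, o, z, z]],
  [[z, z, o, z, z], [o, o, z, a, z], [z, b, z, o, o], [b, z, z, o, o], [o, o, z, z, a]],
  [[o, b, a, a, a], [o, a, a, b, a], [z, b, z, b, o], [z, o, a, o, z], [b, b, z, b, z]],
  [[a, b, z, o, z], [a, o, b, b, b], [o, a, z, z, b], [b, b, b, b, b], [a, b, o, z, z]],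
  [[a, b, o, a, a], [z, o, z, o, a], [a, o, o, a, o], [z, a, o, z, b], [o, o, z, z, a]],
  [[z, b, o, z, b], [o, z, b, z, a], [a, b, o, z, z], [b, o, z, z, o], [z, z, z, a, z]],
  [[z, b, o, z, b], [a, b, a, a, a], [o, b, b, o, o], [z, o, a, o, z], [b, b, o, z, z]],
  [[b, b, z, b, z], [z, b, z, b, a], [a, z, z, a, o], [z, z, b, z, z], [o, o, z, z, b]],
  [[o, o, o, b, o], [z, o, a, z, b], [o, b, a, b, o], [o, a, b, z, z], [z, o, a, a, z]],
  [[b, z, b, z, o], [z, z, z, b, z], [z, b, b, z, o], [b, b, z, z, o], [o, o, o, z, z]],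
  [[z, z, o, b, b], [z, z, a, a, b], [o, b, o, a, o], [a, b, b, o, b], [a, a, o, a, o]],
  [[o, a, z, z, a], [a, o, b, o, a], [b, z, b, z, o], [o, o, b, o, b], [o, z, z, a, a]],
  [[a, z, z, a, o], [z, a, z, b, a], [z, z, o, b, a], [b, a, o, o, o], [o, b, a, b, o]],
  [[a, b, o, a, a], [a, b, a, o, a], [o, z, a, a, z], [z, z, b, b, a], [z, a, a, a, z]],
  [[z, a, a, a, z], [b, o, a, b, b], [z, z, o, o, b], [b, o, b, a, b], [o, z, a, a, z]],
  [[b, z, b, z, o], [a, z, z, b, b], [o, b, a, b, o], [b, o, z, z, o], [a, a, o, a, o]],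
  [[z, b, o, z, b], [b, b, a, b, a], [z, b, b, z, o], [b, o, b, a, b], [o, b, a, a, a]],
  [[a, z, z, a, o], [a, z, a, a, z], [z, b, z, z, z], [o, z, o, z, b], [z, z, o, o, b]],
  [[o, a, o, o, o], [z, a, z, b, a], [o, b, b, a, a], [a, a, b, o, o], [z, b, z, b, o]],
  [[a, a, o, a, o], [a, o, b, o, a], [o, z, z, a, a], [b, o, z, z, o], [b, z, b, z, o]],
  [[o, z, z, z, z], [z, z, z, z, a], [z, z, z, a, z], [z, z, b, z, z], [z, b, z, z, z]],
  [[o, b, a, b, o], [b, b, a, b, a], [o, z, z, a, a], [a, z, a, z, b], [o, a, z, z, a]],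
  [[o, z, z, a, b], [a, a, z, z, o], [b, o, o, a, o], [b, a, a, b, b], [a, z, a, z, o]],
  [[o, o, o, b, o], [b, z, o, z, a], [o, a, z, z, b], [o, z, z, o, b], [o, b, b, a, a]],
  [[o, b, a, o, o], [a, z, z, b, o], [b, z, z, a, o], [o, a, b, o, o], [o, o, o, o, o]],
  [[o, o, o, z, z], [o, o, z, a, z], [o, b, a, b, o], [o, a, b, o, a], [o, o, z, z, b]],
  [[z, z, o, o, a], [z, o, a, z, b], [o, b, a, o, o], [a, z, a, z, b], [a, o, o, a, o]],
  [[z, b, b, z, o], [b, z, o, z, a], [a, b, o, a, b], [b, o, b, b, b], [z, z, o, b, a]],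
  [[z, b, z, z, z], [a, z, z, b, o], [z, z, o, o, a], [o, z, a, z, b], [o, z, a, a, z]],
  [[a, z, a, z, o], [a, o, o, o, a], [z, z, o, b, b], [a, o, b, o, b], [z, b, o, z, b]],
  [[z, o, z, a, o], [a, o, b, b, b], [o, b, a, b, o], [z, z, b, a, o], [a, z, z, a, o]],
  [[z, b, o, z, a], [z, b, o, b, z], [z, z, o, b, a], [b, z, z, z, z], [z, a, z, a, o]],
  [[a, b, z, b, z], [a, a, a, o, a], [o, z, a, a, z], [b, z, z, o, o], [a, o, o, a, o]],
  [[o, z, z, a, b], [z, o, z, z, z], [z, z, o, o, a], [b, z, o, o, z], [a, z, b, z, o]],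
  [[o, o, o, b, o], [z, a, b, b, z], [a, b, o, z, z], [b, a, o, a, b], [z, b, o, z, a]],
  [[o, z, z, a, a], [a, b, z, z, b], [a, a, o, a, o], [b, a, o, a, b], [b, z, b, z, o]],
  [[o, o, o, z, z], [o, o, z, o, z], [o, z, o, o, z], [z, o, o, o, z], [z, z, z, z, o]],
  [[a, b, o, z, z], [b, o, z, a, z], [o, o, o, o, o], [b, a, o, o, o], [o, a, z, z, b]],
  [[z, a, z, a, o], [a, o, o, b, o], [o, b, b, o, o], [z, z, b, b, a], [b, z, z, a, o]],
  [[a, z, a, z, o], [z, z, z, b, z], [z, b, a, z, o], [b, o, z, z, a], [o, a, o, z, z]],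
  [[z, o, z, a, o], [z, z, a, z, z], [o, a, z, z, a], [a, z, z, o, b], [a, b, z, o, z]],
  [[o, b, a, b, o], [a, z, a, a, z], [b, b, o, a, a], [a, b, b, o, b], [o, z, b, a, z]],
  [[z, a, a, a, z], [z, a, o, b, z], [o, b, o, a, o], [a, a, b, o, o], [a, b, o, a, b]],
  [[o, b, a, a, a], [z, o, o, z, a], [a, a, o, a, o], [b, o, b, a, b], [z, b, o, z, b]],
  [[z, z, o, o, b], [z, o, z, z, z], [o, z, o, o, z], [o, z, o, z, b], [a, z, z, a, o]],
  [[b, z, a, z, o], [a, a, a, a, a], [o, a, o, b, o], [b, a, b, o, b], [a, z, b, z, o]],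
  [[b, b, o, a, a], [a, o, a, b, a], [z, a, a, a, z], [o, a, b, o, a], [z, o, b, a, z]],
  [[o, z, o, b, z], [a, o, o, a, a], [a, b, o, a, b], [b, z, o, o, z], [a, a, o, a, o]],
  [[a, b, z, o, z], [b, o, a, z, z], [o, o, o, o, o], [b, o, z, z, a], [o, b, a, a, a]],
  [[a, b, o, a, a], [a, a, z, z, b], [z, b, a, z, o], [o, b, b, o, b], [z, b, z, b, o]],
  [[z, b, o, z, b], [z, z, z, b, z], [o, a, z, z, a], [o, a, b, z, z], [b, z, a, z, o]],
  [[o, b, a, a, b], [a, o, b, a, a], [b, a, o, a, o], [b, b, b, z, z], [a, b, o, z, z]],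
  [[o, o, o, b, o], [a, z, z, b, b], [a, o, o, a, o], [b, z, o, o, z], [a, b, z, b, z]],
  [[o, b, a, o, o], [a, a, a, z, z], [a, b, o, z, z], [a, o, b, o, b], [o, b, a, a, b]],
  [[z, a, z, a, o], [o, z, z, b, a], [z, z, o, o, b], [b, a, a, b, b], [o, b, b, a, b]],
  [[a, o, o, a, o], [a, o, b, a, a], [z, b, o, z, a], [a, z, a, z, b], [z, z, o, o, a]],
  [[a, b, z, b, z], [o, o, a, b, b], [o, a, z, z, a], [b, a, a, b, b], [o, a, o, z, z]],
  [[o, b, a, a, b], [a, o, a, b, a], [b, b, z, b, z], [b, a, a, o, o], [a, b, z, o, z]],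
  [[b, z, a, z, o], [z, o, a, z, o], [a, b, o, z, z], [z, z, z, o, z], [o, a, z, z, a]],
  [[o, b, b, a, b], [o, o, z, o, z], [o, o, z, z, a], [a, a, b, z, z], [o, a, o, b, o]],
  [[a, z, z, a, o], [o, o, a, b, o], [o, b, b, b, o], [b, z, z, o, o], [o, a, o, b, o]],
  [[o, b, a, o, o], [a, a, a, a, a], [a, b, o, a, a], [a, z, z, o, b], [o, z, z, a, b]],
  [[a, z, a, z, o], [a, b, a, z, z], [o, a, z, z, b], [z, a, o, z, b], [z, z, z, a, z]],
  [[o, o, o, o, o], [a, o, b, b, b], [a, b, o, z, z], [o, a, z, b, z], [o, a, z, z, b]],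
  [[o, z, a, a, z], [o, o, z, a, z], [z, o, a, a, z], [z, z, z, z, b], [b, b, o, z, z]],
  [[z, z, o, o, a], [b, a, a, b, a], [b, z, b, z, o], [b, a, o, b, b], [z, b, o, z, a]],
  [[a, b, o, z, z], [a, b, z, z, b], [z, b, o, z, b], [a, z, o, z, b], [z, z, z, a, z]],
  [[z, a, z, a, o], [o, o, z, o, z], [a, z, z, a, o], [b, b, z, z, a], [z, z, o, z, z]],
  [[o, b, a, o, o], [o, z, o, z, a], [z, z, o, o, a], [z, a, b, z, o], [a, o, o, a, o]],
  [[o, z, o, b, z], [z, a, o, b, z], [o, a, o, z, z], [o, a, z, b, z], [z, z, z, z, o]],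
  [[z, o, z, a, o], [z, a, o, b, z], [o, b, b, b, o], [o, a, b, o, o], [b, b, z, o, z]],
  [[o, b, b, a, a], [o, o, z, o, z], [o, b, a, a, b], [o, a, z, b, z], [o, b, o, a, o]],
  [[z, a, b, a, z], [a, b, a, a, a], [b, b, o, z, z], [z, a, b, z, a], [o, b, b, o, o]],
  [[b, b, o, a, b], [a, o, b, a, a], [z, a, z, a, o], [o, a, z, a, z], [z, a, a, a, z]],
  [[o, a, z, z, b], [z, o, b, z, a], [a, z, a, z, o], [b, o, b, z, z], [z, z, z, a, z]],
  [[z, b, a, z, o], [a, b, z, z, o], [a, z, a, z, o], [z, z, z, o, z], [o, a, o, z, z]],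
  [[a, b, z, o, z], [z, a, o, b, z], [z, z, z, z, o], [b, z, b, a, z], [o, a, o, z, z]],
  [[a, b, o, a, a], [z, a, o, b, z], [b, b, z, o, z], [z, b, z, o, b], [o, b, b, b, o]],
  [[o, a, z, z, a], [b, o, z, a, z], [z, z, o, z, z], [z, b, z, o, b], [b, z, z, a, o]],
  [[b, b, z, b, z], [a, o, o, b, o], [o, o, z, z, a], [b, o, b, a, b], [b, b, o, z, z]],
  [[a, b, o, a, b], [z, z, a, o, b], [a, z, b, z, o], [z, a, a, z, b], [o, a, o, o, o]],
  [[z, z, o, o, a], [a, z, b, b, z], [o, z, z, a, b], [z, a, z, z, z], [a, z, b, z, o]],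
  [[z, b, o, z, b], [b, z, b, z, a], [b, a, o, a, o], [b, a, a, a, b], [z, z, o, b, b]],
  [[a, z, a, z, o], [a, z, z, b, o], [o, b, b, o, o], [b, b, z, z, a], [b, o, o, a, o]],
  [[z, a, b, a, z], [a, z, z, z, z], [z, a, z, a, o], [z, z, b, a, o], [z, b, o, z, a]],
  [[o, b, b, b, o], [o, o, z, a, z], [z, o, b, a, z], [z, b, z, o, b], [a, b, o, a, a]],
  [[z, b, o, z, a], [o, a, a, b, a], [z, b, a, z, o], [b, b, b, b, b], [o, b, b, a, b]],
  [[a, b, o, a, a], [o, z, z, b, a], [o, b, a, o, o], [b, b, b, b, b], [o, z, z, a, b]],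
  [[z, b, o, z, b], [o, o, a, z, z], [z, a, b, a, z], [b, a, a, b, b], [o, a, o, o, o]],
  [[a, o, o, a, o], [a, b, a, z, z], [o, b, b, a, a], [b, a, a, a, b], [b, b, o, z, z]],
  [[o, o, z, z, a], [z, z, a, z, z], [o, z, z, a, a], [a, a, z, b, z], [z, b, z, o, o]],
  [[o, b, b, a, a], [o, b, a, b, a], [o, z, o, o, z], [z, z, b, b, o], [z, o, a, a, z]],
  [[z, b, z, z, z], [z, z, a, a, o], [o, z, o, o, z], [o, z, z, o, b], [a, z, a, z, o]],
  [[z, o, a, a, z], [a, z, a, a, z], [b, a, o, a, o], [z, z, b, b, o], [o, b, b, a, a]],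
  [[b, b, o, a, b], [z, a, o, b, z], [z, z, o, b, a], [b, z, a, o, z], [o, o, o, o, o]],
  [[o, z, z, z, z], [z, o, b, z, a], [z, o, b, a, z], [z, z, b, a, a], [z, b, z, o, o]],
  [[a, z, z, a, o], [z, z, a, a, o], [a, z, a, z, o], [z, a, z, z, z], [o, z, o, o, z]],
  [[o, a, o, b, o], [a, a, z, z, b], [b, b, z, b, z], [a, a, b, z, z], [o, b, b, a, b]],
  [[o, b, a, a, b], [a, b, a, a, a], [b, z, z, a, o], [a, z, o, z, b], [o, o, z, z, a]],
  [[o, b, a, o, o], [a, o, a, b, a], [o, a, z, z, a], [b, a, a, a, b], [o, o, z, z, b]],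
  [[z, a, b, a, z], [o, a, a, b, a], [b, b, z, b, z], [b, a, o, o, o], [z, b, z, b, o]],
  [[z, b, a, z, o], [z, o, z, o, a], [o, o, z, z, a], [o, a, b, o, o], [a, o, o, a, o]],
  [[o, a, z, z, a], [o, z, b, z, a], [z, z, z, a, z], [z, a, b, z, a], [a, b, o, z, z]],
  [[a, o, o, a, o], [z, o, b, z, a], [a, b, o, a, a], [z, a, z, a, b], [o, o, z, z, a]],
  [[o, z, o, b, z], [b, b, a, b, a], [o, z, a, a, z], [o, a, b, o, a], [o, b, b, o, o]],
  [[b, z, b, z, o], [a, a, a, z, z], [o, o, z, z, a], [z, a, a, z, b], [z, z, z, a, z]],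
  [[a, z, z, a, o], [a, a, z, z, o], [z, a, z, a, o], [a, a, z, a, z], [z, z, o, z, z]],
  [[z, z, z, z, o], [z, b, o, b, z], [o, z, b, a, z], [o, a, b, z, z], [a, b, z, b, z]],
  [[o, a, o, b, o], [b, o, a, b, b], [o, z, a, a, z], [z, o, o, o, z], [z, z, o, o, b]],
  [[o, o, o, b, o], [o, o, a, b, b], [z, b, a, z, o], [z, z, b, b, a], [b, z, a, z, o]],
  [[b, b, o, a, b], [z, o, z, a, a], [b, a, o, a, o], [z, a, a, z, b], [o, a, z, z, b]],
  [[o, z, o, b, z], [o, z, o, z, a], [z, z, o, b, a], [z, a, z, z, z], [b, z, z, a, o]],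
  [[b, b, z, b, z], [z, o, z, o, a], [b, o, o, a, o], [z, o, a, o, z], [o, b, a, a, a]],
  [[z, b, a, z, o], [o, z, b, z, a], [b, b, o, a, a], [b, b, b, a, b], [z, z, o, o, b]],
  [[z, z, o, o, a], [a, z, a, a, z], [o, b, b, a, a], [z, b, o, o, z], [b, a, o, a, o]],
  [[o, z, b, a, z], [z, a, o, b, z], [o, o, o, o, o], [a, a, b, o, a], [z, z, o, b, a]],
  [[o, o, z, z, b], [a, o, b, o, a], [b, b, z, o, z], [o, a, b, o, a], [o, o, o, z, z]],
  [[b, b, o, a, a], [z, z, a, a, o], [b, z, a, z, o], [z, a, o, z, b], [o, o, o, b, o]],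
  [[o, a, o, o, o], [a, z, z, b, o], [b, a, o, a, o], [b, z, a, o, z], [b, b, z, o, z]],
  [[o, b, b, a, b], [z, o, b, z, a], [b, o, o, a, o], [b, b, b, b, b], [z, b, o, z, a]],
  [[o, a, o, z, z], [a, b, z, z, b], [b, b, o, a, a], [b, a, a, b, b], [a, b, z, b, z]],
  [[o, b, b, a, a], [a, a, a, o, a], [a, z, z, a, o], [o, z, a, z, b], [o, a, z, z, b]],
  [[z, z, o, b, b], [b, b, a, b, a], [b, o, o, a, o], [b, a, b, o, b], [z, z, o, o, a]],
  [[b, z, a, z, o], [a, a, a, o, a], [z, z, o, o, b], [a, a, b, o, o], [z, b, a, z, o]],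
  [[z, z, o, b, b], [b, a, a, b, a], [z, a, b, a, z], [b, a, o, o, a], [o, z, o, b, z]],
  [[b, b, o, a, a], [z, a, o, b, z], [a, b, o, a, b], [z, o, o, o, z], [o, b, o, a, o]],
  [[o, a, o, o, o], [b, o, a, b, o], [z, b, b, z, o], [z, z, b, a, o], [a, z, b, z, o]],
  [[a, z, b, z, o], [z, z, a, a, b], [z, b, z, z, z], [b, z, o, o, z], [o, z, z, a, b]],
  [[o, z, b, a, z], [z, z, a, o, b], [b, b, o, a, b], [b, b, b, b, b], [z, o, b, a, z]],
  [[a, z, z, a, o], [a, b, z, z, o], [o, o, o, b, o], [b, a, a, o, o], [a, z, b, z, o]],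
  [[z, a, b, a, z], [z, o, a, z, b], [z, z, o, b, a], [z, o, z, o, b], [o, z, z, z, z]],
  [[o, o, z, z, a], [b, a, a, b, a], [z, b, z, b, o], [z, a, o, z, b], [a, b, o, a, a]],
  [[a, z, b, z, o], [b, z, z, b, a], [o, b, b, a, a], [b, o, z, z, a], [o, o, o, b, o]],
  [[z, o, a, a, z], [z, z, z, z, a], [o, z, a, a, z], [a, a, z, b, z], [b, b, o, z, z]],
  [[a, b, o, a, b], [b, b, a, b, a], [o, b, b, o, o], [b, z, b, a, z], [o, z, a, a, z]],
  [[a, z, z, a, o], [z, z, a, z, z], [b, b, z, b, z], [z, o, z, o, b], [o, o, z, z, b]],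
  [[z, b, z, z, z], [o, z, o, z, a], [b, z, z, a, o], [b, z, b, a, z], [z, z, o, b, a]],
  [[b, b, z, o, z], [z, z, z, z, a], [b, b, o, z, z], [z, b, o, o, z], [o, z, a, a, z]],
  [[b, b, z, b, z], [a, a, z, z, o], [z, z, o, z, z], [o, z, z, o, b], [z, a, z, a, o]],
  [[z, b, b, z, o], [o, b, a, b, a], [b, b, o, a, b], [b, o, z, z, a], [z, b, z, o, o]],
  [[b, z, b, z, o], [b, b, a, b, a], [o, a, z, z, a], [b, a, o, a, b], [o, z, z, a, a]],
  [[b, b, z, b, z], [a, o, b, b, b], [z, a, b, a, z], [a, b, b, o, b], [z, b, z, b, o]],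
  [[b, z, b, z, o], [z, o, a, z, b], [a, o, o, a, o], [z, z, b, b, o], [o, b, a, o, o]],
  [[z, b, a, z, o], [a, b, a, z, z], [z, z, z, a, z], [o, z, o, z, b], [o, a, z, z, b]],
  [[a, b, z, o, z], [o, o, z, o, z], [o, b, o, a, o], [b, a, a, o, o], [o, b, a, a, b]],
  [[z, b, b, z, o], [z, o, z, a, a], [o, a, z, z, b], [a, a, b, o, a], [b, a, o, a, o]],
  [[o, z, z, a, b], [a, z, o, b, z], [b, b, z, o, z], [a, o, b, o, b], [o, a, o, o, o]],
  [[b, b, z, o, z], [a, b, a, a, a], [o, z, b, a, z], [b, z, z, o, a], [b, a, o, a, o]],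
  [[o, z, b, a, z], [o, b, a, b, a], [o, a, o, o, o], [a, a, z, b, z], [o, z, z, a, b]],
  [[o, a, o, b, o], [z, z, a, a, o], [z, a, a, a, z], [b, z, o, o, z], [a, b, o, a, a]],
  [[o, a, z, z, a], [a, a, z, z, o], [o, b, o, a, o], [b, a, o, b, b], [o, b, b, b, o]]]

def idxS : List ℕ := [1, 0, 4, 6, 2, 9, 3, 12, 14, 5, 17, 19, 7, 22, 8, 24, 26, 10, 29, 11, 31, 33, 13, 36, 15, 39, 16, 41, 43, 18, 46, 20, 49, 21, 51, 53, 23, 56, 58, 25, 61, 27, 64, 28, 66, 68, 30, 71, 73, 32, 76, 34, 79, 35, 81, 83, 37, 86, 38, 88, 90, 40, 93, 95, 42, 98, 44, 101, 45, 103, 105, 47, 108, 48, 110, 112, 50, 115, 117, 52, 120, 54, 123, 55, 125, 127, 57, 130, 59, 133, 60, 135, 137, 62, 140, 63, 142, 144, 65, 147, 149, 67, 152, 69, 155, 70, 157, 159, 72, 162, 74, 163, 75, 165, 167, 77, 170, 78, 172, 174, 80, 177, 179, 82, 182, 84, 185, 85, 187, 189, 87, 132, 131, 89, 194, 91, 197, 92, 199, 201, 94, 204, 96, 207, 97, 175, 210, 99, 213, 100, 215, 217, 102,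 220, 222, 104, 225, 106, 228, 107, 230, 232, 109, 111, 236, 113, 239, 114, 241, 243, 116, 246, 118, 249, 119, 145, 252, 121, 254, 122, 256, 258, 124, 261, 263, 126, 211, 128, 268, 129, 270, 272, 274, 276, 134, 279, 281, 136, 284, 138, 287, 139, 289, 291, 141, 206, 205, 143, 296, 298, 146, 186, 301, 148, 304, 150, 307, 151, 277, 310, 153, 313, 154, 315, 317, 156, 320, 322, 158, 325, 160, 328, 161, 330, 332, 334, 164, 337, 339, 166, 342, 168, 345, 169, 347, 349, 171, 248, 247, 173, 331, 355, 176, 357, 178, 360, 180, 363, 181, 335, 366, 183, 369, 184, 314, 371, 373, 375, 188, 378, 190, 381, 191, 383, 192, 384, 193, 218, 387, 195, 389, 196, 391, 341, 198, 394, 396, 200, 311, 202, 401, 203, 402, 404, 406, 408, 208, 411, 209, 413, 415, 212, 417, 418, 214, 306, 305, 216, 423, 425, 219, 288, 428, 221, 264, 223, 432, 224, 409, 435, 226, 437, 227, 439, 441, 229, 444, 446, 231, 449, 233, 250, 234, 453, 235, 259, 455, 237, 457, 238, 459, 283,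 240, 461, 463, 242, 367, 244, 398, 245, 467, 469, 471, 473, 475, 251, 477, 253, 386, 479, 255, 362, 361, 257, 484, 486, 260, 346, 393, 262, 490, 265, 474, 266, 493, 267, 495, 497, 269, 500, 502, 271, 505, 273, 275, 454, 358, 278, 472, 280, 513, 282, 516, 368, 285, 518, 286, 438, 348, 521, 482, 290, 292, 525, 293, 527, 294, 456, 295, 318, 529, 297, 530, 299, 532, 300, 436, 302, 303, 536, 538, 466, 540, 308, 543, 309, 544, 546, 312, 548, 431, 430, 316, 550, 552, 319, 416, 321, 397, 323, 558, 324, 541, 561, 326, 563, 327, 564, 565, 329, 568, 569, 570, 333, 385, 336, 407, 338, 575, 340, 567, 343, 579, 344, 494, 560, 421, 350, 533, 351, 582, 352, 388, 353, 372, 354, 584, 356, 586, 359, 587, 589, 400, 522, 364, 592, 365, 593, 553, 566, 370, 596, 598, 374, 464, 376, 602, 377, 591, 545, 379, 519, 380, 605, 606, 382, 542, 607, 608, 610, 612, 528, 613, 390, 515, 514, 392, 531, 395, 501, 609, 399, 483, 619, 621, 403, 623, 405, 511, 410, 412,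 517, 414, 468, 628, 615, 419, 630, 420, 631, 422, 442, 506, 424, 426, 499, 427, 562, 429, 633, 433, 603, 434, 488, 635, 637, 557, 556, 440, 597, 465, 443, 547, 445, 447, 448, 489, 460, 450, 451, 452, 642, 643, 583, 644, 458, 577, 576, 585, 462, 645, 611, 470, 573, 476, 578, 478, 480, 614, 481, 638, 498, 485, 487, 604, 625, 491, 559, 492, 640, 601, 600, 496, 551, 594, 503, 504, 507, 508, 520, 509, 581, 510, 512, 588, 535, 629, 654, 655, 523, 653, 524, 656, 526, 634, 595, 657, 632, 534, 616, 537, 539, 627, 549, 624, 554, 641, 555, 590, 659, 599, 636, 571, 572, 574, 580, 652, 651, 658, 650, 649, 647, 646, 620, 617, 618, 622, 626, 648, 639]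

def idxT : List ℕ := [2, 3, 5, 7, 8, 10, 11, 13, 15, 16, 18, 20, 21, 23, 1, 25, 27, 28, 30, 0, 32, 34, 35, 37, 38, 40, 4, 42, 44, 45, 47, 48, 50, 6, 52, 54, 55, 57, 59, 60, 62, 63, 65, 9, 67, 69, 70, 72, 74, 75, 77, 78, 80, 12, 82, 84, 85, 87, 14, 89, 91, 92, 94, 96, 97, 99, 100, 102, 17, 104, 106, 107, 109, 19, 111, 113, 114, 116, 118, 119, 121, 122, 124, 22, 126, 128, 129, 131, 132, 134, 24, 136, 138, 139, 141, 26, 143, 145, 146, 148, 150, 151, 153, 154, 156, 29, 158, 160, 161, 73, 162, 164, 31, 166, 168, 169, 171, 33, 173, 175, 176, 178, 180, 181, 183, 184, 186, 36, 188, 190, 191, 58, 192, 193, 195, 196, 198, 39, 200, 202, 203, 205, 206, 208, 41, 209, 211, 212, 214, 43, 216, 218, 219, 221, 223, 224, 226, 227, 229, 46, 231, 233, 234, 235, 237, 238, 240, 49, 242, 244, 245, 247, 248, 250, 51, 251, 225, 253, 255, 53, 257, 259, 260, 262, 264, 265, 266, 267, 269, 56, 271, 273, 275, 277, 278, 280, 282, 283, 285, 286, 288, 61, 290, 292,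 293, 95, 294, 295, 297, 299, 64, 300, 302, 303, 305, 306, 308, 66, 309, 311, 312, 314, 68, 316, 318, 319, 321, 323, 324, 326, 327, 329, 71, 331, 333, 335, 336, 338, 340, 341, 343, 344, 346, 76, 348, 350, 351, 117, 352, 353, 354, 356, 79, 358, 359, 361, 362, 364, 81, 365, 367, 368, 315, 83, 370, 372, 374, 376, 377, 379, 380, 382, 86, 296, 130, 385, 88, 386, 325, 388, 390, 90, 392, 165, 393, 395, 397, 398, 399, 400, 241, 93, 403, 405, 407, 409, 410, 412, 174, 414, 416, 98, 258, 419, 420, 149, 421, 422, 424, 426, 101, 427, 239, 429, 430, 431, 433, 103, 434, 436, 252, 438, 105, 440, 442, 443, 445, 447, 448, 450, 451, 452, 108, 454, 110, 417, 378, 456, 458, 112, 460, 135, 428, 462, 464, 401, 465, 466, 199, 115, 468, 470, 472, 474, 476, 144, 478, 120, 217, 480, 481, 179, 482, 483, 485, 487, 123, 488, 197, 489, 491, 125, 492, 210, 494, 127, 496, 498, 499, 501, 503, 504, 506, 507, 508, 509, 510, 133, 511, 512, 514, 515, 381, 182, 517, 439,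 137, 519, 520, 522, 360, 523, 524, 526, 140, 423, 204, 236, 142, 528, 449, 383, 461, 531, 533, 185, 534, 535, 147, 537, 539, 243, 541, 542, 479, 276, 545, 547, 152, 549, 222, 263, 369, 551, 553, 155, 554, 555, 556, 557, 559, 157, 560, 562, 387, 493, 159, 467, 566, 567, 363, 497, 505, 571, 572, 163, 573, 574, 576, 577, 328, 578, 495, 167, 563, 540, 304, 580, 581, 170, 484, 246, 194, 172, 583, 330, 394, 585, 525, 177, 588, 590, 201, 591, 568, 418, 334, 561, 594, 595, 313, 597, 546, 599, 600, 601, 603, 187, 521, 604, 455, 437, 189, 402, 548, 516, 307, 441, 609, 611, 575, 317, 602, 614, 281, 615, 616, 298, 584, 617, 618, 310, 256, 620, 622, 605, 624, 625, 471, 207, 626, 284, 627, 564, 629, 513, 592, 457, 213, 550, 215, 607, 570, 527, 632, 268, 287, 593, 220, 469, 634, 613, 408, 345, 636, 502, 322, 396, 518, 638, 366, 228, 598, 639, 640, 230, 261, 641, 529, 232, 249, 619, 623, 371, 558, 630, 339, 612, 355, 530, 646, 647, 633, 406, 648,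 342, 649, 543, 389, 254, 596, 569, 582, 650, 544, 404, 651, 644, 473, 446, 375, 463, 579, 631, 552, 637, 270, 272, 274, 347, 453, 532, 357, 279, 652, 301, 653, 645, 635, 289, 628, 291, 536, 586, 432, 565, 589, 425, 435, 391, 656, 658, 413, 606, 643, 415, 459, 320, 657, 621, 373, 655, 332, 384, 337, 349, 587, 490, 538, 486, 477, 610, 654, 642, 500, 608, 659, 411, 475, 444]

def parI : List ℕ := [0, 0, 0, 1, 2, 2, 3, 3, 4, 5, 5, 6, 7, 7, 8, 8, 9, 10, 10, 11, 11, 12, 13, 13, 15, 15, 16, 16, 17, 18, 18, 20, 20, 21, 21, 22, 23, 23, 24, 25, 25, 27, 27, 28, 28, 29, 30, 30, 31, 32, 32, 34, 34, 35, 35, 36, 37, 37, 38, 38, 39, 40, 40, 41, 42, 42, 44, 44, 45, 45, 46, 47, 47, 48, 48, 49, 50, 50, 51, 52, 52, 54, 54, 55, 55, 56, 57, 57, 59, 59, 60, 60, 61, 62, 62, 63, 63, 64, 65, 65, 66, 67, 67, 69, 69, 70, 70, 71, 72, 72, 74, 74, 75, 75, 76, 77, 77, 78, 78, 79, 80, 80, 81, 82, 82, 84, 84, 85, 85, 86, 87, 87, 88, 89, 89, 91, 91, 92, 92, 93, 94,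 94, 96, 96, 97, 97, 98, 99, 99, 100, 100, 101, 102, 102, 103, 104, 104, 106, 106, 107, 107, 108, 109, 111, 111, 113, 113, 114, 114, 115, 116, 116, 118, 118, 119, 119, 120, 121, 121, 122, 122, 123, 124, 124, 125, 126, 126, 128, 128, 129, 129, 130, 132, 133, 134, 134, 135, 136, 136, 138, 138, 139, 139, 140, 141, 141, 142, 143, 143, 145, 146, 146, 147, 148, 148, 150, 150, 151, 151, 152, 153, 153, 154, 154, 155, 156, 156, 157, 158, 158, 160, 160, 161, 161, 162, 163, 164, 164, 165, 166, 166, 168, 168, 169, 169, 170, 171, 171, 172, 173, 173, 175, 176, 177, 178, 178, 180, 180, 181, 181, 182, 183, 183, 184, 184, 185, 186, 187, 188, 188, 190, 190, 191, 191, 192, 192, 193, 193, 194, 195, 195, 196, 196, 197, 198, 198, 199, 200, 200, 202, 202, 203, 203, 204, 206, 207, 208, 208, 209, 209, 211, 212, 212, 213, 214, 214, 215, 216, 216, 218, 219, 219, 220, 221, 221, 223, 223, 224, 224, 225, 226, 226, 227, 227, 228, 229, 229, 230, 231, 231, 233, 233,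 234, 234, 235, 235, 236, 237, 237, 238, 238, 239, 240, 240, 241, 242, 242, 244, 244, 245, 245, 246, 248, 249, 250, 251, 251, 253, 253, 254, 255, 255, 256, 257, 257, 259, 260, 260, 261, 262, 264, 265, 265, 266, 266, 267, 267, 268, 269, 269, 270, 271, 271, 273, 275, 275, 277, 278, 279, 280, 280, 282, 282, 284, 285, 285, 286, 286, 287, 288, 289, 290, 292, 292, 293, 293, 294, 294, 295, 295, 296, 297, 297, 299, 299, 300, 300, 302, 303, 303, 304, 306, 307, 308, 308, 309, 309, 311, 312, 313, 314, 315, 316, 316, 318, 319, 319, 321, 321, 323, 323, 324, 324, 325, 326, 326, 327, 327, 328, 329, 329, 330, 331, 333, 333, 336, 337, 338, 338, 340, 340, 343, 343, 344, 344, 346, 347, 350, 350, 351, 351, 352, 352, 353, 353, 354, 354, 356, 356, 359, 359, 360, 362, 363, 364, 364, 365, 365, 367, 369, 370, 370, 372, 374, 374, 376, 376, 377, 377, 378, 379, 379, 380, 380, 381, 382, 382, 383, 384, 385, 386, 388, 389, 390, 390, 391, 392, 394, 395, 397, 398,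 399, 399, 401, 402, 403, 403, 405, 409, 410, 412, 413, 414, 414, 416, 417, 419, 419, 420, 420, 422, 422, 423, 424, 426, 426, 427, 427, 429, 429, 433, 433, 434, 434, 436, 437, 438, 439, 440, 440, 442, 443, 443, 445, 447, 448, 448, 449, 450, 451, 452, 453, 454, 456, 457, 458, 458, 459, 461, 462, 467, 468, 470, 474, 476, 477, 478, 480, 480, 481, 481, 483, 485, 487, 488, 489, 491, 491, 492, 493, 494, 495, 496, 496, 499, 503, 504, 507, 508, 508, 509, 509, 510, 512, 513, 515, 516, 519, 520, 523, 523, 524, 524, 526, 526, 527, 530, 532, 534, 534, 537, 539, 544, 549, 550, 554, 554, 555, 559, 563, 564, 567, 571, 572, 574, 580, 580, 581, 584, 586, 593, 596, 614, 616, 617, 618, 622, 626, 631, 639]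

def parS : List Bool := [true, true, false, false, true, false, true, false, false, true, false, false, true, false, true, false, false, true, false, true, false, false, true, false, true, false, true, false, false, true, false, true, false, true, false, false, true, false, false, true, false, true, false, true, false, false, true, false, false, true, false, true, false, true, false, false, true, false, true, false, false, true, false, false, true, false, true, false, true, false, false, true, false, true, false, false, true, false, false, true, false, true, false, true, false, false, true, false, true, false, true, false, false, true, false, true, false, false, true, false, false, true, false, true, false, true, false, false, true, false, true, false, true, false, false, true, false, true, false, false, true, false, false, true, false, true, false, true, false, false, true, false, false, true, false, true, false, true, false, false,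 true, false, true, false, true, false, false, true, false, true, false, false, true, false, false, true, false, true, false, true, false, false, true, true, false, true, false, true, false, false, true, false, true, false, true, false, false, true, false, true, false, false, true, false, false, true, false, true, false, true, false, false, false, false, true, false, false, true, false, true, false, true, false, false, true, false, false, true, false, false, true, false, false, true, false, true, false, true, false, false, true, false, true, false, false, true, false, false, true, false, true, false, true, false, false, false, true, false, false, true, false, true, false, true, false, false, true, false, false, true, false, false, true, false, true, false, true, false, true, false, false, true, false, true, false, false, false, false, true, false, true, false, true, false, true, false, true, false, false, true, false, true, false,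 false, true, false, false, true, false, true, false, true, false, false, false, false, true, false, true, false, false, true, false, false, true, false, false, true, false, false, true, false, false, true, false, true, false, true, false, false, true, false, true, false, false, true, false, false, true, false, true, false, true, false, true, false, false, true, false, true, false, false, true, false, false, true, false, true, false, true, false, false, false, false, false, true, false, true, false, false, true, false, false, true, false, false, true, false, false, true, false, true, false, true, false, true, false, false, true, false, false, true, false, true, true, false, false, true, false, true, false, true, false, false, true, false, true, false, false, false, false, true, true, false, true, false, true, false, true, false, false, true, false, true, false, true, false, true, true, false, false, false, false, true, false, true,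 false, false, true, false, false, false, true, false, false, true, false, true, false, true, false, true, false, false, true, false, true, false, false, true, false, false, false, true, false, true, false, true, false, true, false, true, false, true, false, false, false, true, false, true, false, true, false, true, false, true, false, true, false, true, false, false, false, false, true, false, true, false, false, false, true, false, false, true, false, true, false, true, false, false, true, false, true, false, false, true, false, false, false, false, false, false, false, true, false, false, true, false, true, false, false, true, false, false, false, true, false, true, false, true, true, false, true, false, false, false, true, false, true, false, true, false, false, true, true, false, true, false, true, false, true, false, true, false, false, false, false, false, true, false, false, true, false, true, true, true, false, false, true,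 true, true, false, false, false, false, true, false, false, false, true, false, false, true, false, true, false, true, true, false, true, false, false, true, true, false, false, true, false, true, false, false, false, true, false, false, true, true, true, true, false, true, false, true, true, false, false, false, false, false, true, false, true, false, true, false, false, false, false, true, false, true, true, false, true, false, true, false, true, false, false, false, false, true, true, true, true, false, false, false, false, false, false, false, false, true, true, true, true, false, true]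

end Cfsg.Agent.Lib.Lead.U5

namespace Cfsg.Agent.Lib.Lead.U5

open E4

def tpows : List CM := [
  [[o, z, z, z, z], [z, o, z, z, z], [z, z, o, z, z], [z, z, z, o, z], [z, z, z, z, o]],
  [[o, b, a, a, a], [a, a, a, a, a], [a, b, o, z, z], [b, o, z, z, a], [a, b, z, o, z]],
  [[o, z, o, o, z], [z, z, a, a, b], [o, b, b, a, a], [a, o, b, o, b], [z, o, a, a, z]],
  [[z, o, b, a, z], [b, o, a, b, b], [b, b, z, o, z], [b, a, a, a, b], [z, o, z, a, o]],
  [[a, a, o, a, o], [o, z, o, z, a], [o, a, z, z, a], [b, z, z, o, o], [o, b, a, b, o]],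
  [[z, z, o, o, b], [z, o, b, z, a], [o, o, o, b, o], [a, z, o, z, b], [b, b, o, a, a]],
  [[z, z, o, b, a], [z, o, o, z, a], [o, a, o, o, o], [o, z, a, z, b], [a, b, o, a, b]],
  [[b, o, o, a, o], [b, z, b, z, a], [o, o, z, z, b], [b, z, z, o, a], [o, b, b, o, o]],
  [[z, a, a, a, z], [o, o, a, b, o], [a, b, z, b, z], [b, a, o, b, b], [z, a, z, a, o]],
  [[o, z, o, b, z], [z, z, a, o, o], [o, b, a, a, b], [o, b, b, o, b], [z, a, b, a, z]],
  [[o, b, b, a, b], [a, b, a, o, a], [b, b, o, z, z], [b, b, z, z, o], [b, b, z, b, z]]]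

end Cfsg.Agent.Lib.Lead.U5
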