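import Mathlib
import Cfsg.Agent.Lib.Lead.U5.E4
import Cfsg.Agent.Lib.Lead.U5.Data

/-!
# Project U5 : the Boolean certificates for the explicit `L_2(11) < SU_5(2)`. (`lead`)
-/

set_option autoImplicit false
set_option maxRecDepth 100000

namespace Cfsg.Agent.Lib.Lead.U5

open E4

/-- `M^k` -/
def cpow (M : CM) : ℕ → CM
  | 0 => cone
  | k + 1 => cmul (cpow M k) M

/-- matrix times vector -/
def mv (C : CM) (v : List E4) : List E4 :=
  row5 (fun i => E4.add (E4.add (E4.add (E4.add (E4.mul (ent C i 0) (v.getD 0 z)) (E4.mul (ent C i 1) (v.getD 1 z)))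
    (E4.mul (ent C i 2) (v.getD 2 z))) (E4.mul (ent C i 3) (v.getD 3 z))) (E4.mul (ent C i 4) (v.getD 4 z)))

/-- the Krylov matrix with columns `w, Cw, C²w, C³w, C⁴w` -/
def kry (C : CM) (w : List E4) : CM :=
  let c1 := mv C w
  let c2 := mv C c1
  let c3 := mv C c2
  let c4 := mv C c3
  mk5 (fun i k => match k with
    | 0 => w.getD i z
    | 1 => c1.getD i z
    | 2 => c2.getD i z
    | 3 => c3.getD i z
    | _ => c4.getD i z)

def e4s : List E4 := [z, o, a, b]

def allVecs : List (List E4) :=
  e4s.flatMap fun x0 => e4s.flatMap fun x1 => e4s.flatMap fun x2 => e4s.flatMap fun x3 =>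
    e4s.map fun x4 => [x0, x1, x2, x3, x4]

/-- the candidate normalising matrix with `g e₀ = w`, `g t g⁻¹ = t^j` -/
def cand (j : ℕ) (w : List E4) : CM := cmul (kry (cpow gt j) w) p0inv

/-- same entries (whatever the shape of the lists) -/
def sameEnt (M N : CM) : Bool := mk5 (ent M) == mk5 (ent N)

def parOK (i : ℕ) : Bool :=
  decide (parI.getD (i + 1) 0 < i + 1) &&
  (tbl.getD (i + 1) [] == cmul (tbl.getD (parI.getD (i + 1) 0) []) (if parS.getD (i + 1) true then gs else gt))

def parCheck : Bool := (List.range 659).all parOK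

def stepOK (i : ℕ) : Bool :=
  (decide (idxS.getD i 0 < 660) && cmul (tbl.getD i []) gs == tbl.getD (idxS.getD i 0) []) &&
  (decide (idxT.getD i 0 < 660) && cmul (tbl.getD i []) gt == tbl.getD (idxT.getD i 0) [])

def closureCheck : Bool := (List.range 660).all stepOK

def normOne (w : List E4) : Bool :=
  E4.add (E4.add (E4.add (E4.add (E4.mul (w.getD 0 z) (E4.sq (w.getD 0 z))) (E4.mul (w.getD 1 z) (E4.sq (w.getD 1 z))))
    (E4.mul (w.getD 2 z) (E4.sq (w.getD 2 z)))) (E4.mul (w.getD 3 z) (E4.sq (w.getD 3 z))))
    (E4.mul (w.getD 4 z) (E4.sq (w.getD 4 z))) == o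

def candOK (g : CM) : Bool :=
  !(isU g) || (tbl.contains g || tbl.contains (csmul a g) || tbl.contains (csmul b g))

def normCheck (j : ℕ) : Bool :=
  allVecs.all fun w => !(normOne w) || candOK (cmul (kry (tpows.getD j []) w) p0inv)

theorem closureCheck_ok : closureCheck = true := by decide +kernel

theorem tbl_length : tbl.length = 660 := by decide +kernel

theorem tbl_zero : tbl.getD 0 [] = cone := by decide +kernel

theorem gs_sq : cmul gs gs = cone := by decide +kernel

theorem gt_pow : cpow gt 11 = cone := by decide +kernel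

theorem gs_U : isU gs = true := by decide +kernel

theorem gt_U : isU gt = true := by decide +kernel

theorem p0_ok : cmul (kry gt [o, z, z, z, z]) p0inv = cone := by decide +kernel

theorem dwit_U : isU dwit = true := by decide +kernel

theorem dwit_notin : tbl.all (fun M => !(sameEnt M dwit)) = true := by decide +kernel

theorem dwit_sq : cmul dwit dwit = cone := by decide +kernel

theorem conj_ne : (List.range 11).all (fun k => !(sameEnt (cmul (cmul gs gt) gs) (cpow gt k))) = true := by
  decide +kernel

theorem gt_ne : sameEnt gt cone = false := by decide +kernel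

theorem parCheck_ok : parCheck = true := by decide +kernel

theorem gs_mem : tbl.contains gs = true := by decide +kernel

theorem gt_mem : tbl.contains gt = true := by decide +kernel

theorem tpows_ok : (List.range 11).all (fun j => tpows.getD j [] == cpow gt j) = true := by decide +kernel

end Cfsg.Agent.Lib.Lead.U5
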