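import Mathlib
import Cfsg.Agent.Lib.Lead.U5.Cert

/-!
# Project U5 : the normaliser certificates (one per exponent `j`). (`lead`)
-/

set_option autoImplicit false
set_option maxRecDepth 100000

namespace Cfsg.Agent.Lib.Lead.U5

theorem normCheck_ok0 : normCheck 0 = true := by decide +kernel

theorem normCheck_ok1 : normCheck 1 = true := by decide +kernel

theorem normCheck_ok2 : normCheck 2 = true := by decide +kernel

theorem normCheck_ok3 : normCheck 3 = true := by decide +kernel

theorem normCheck_ok4 : normCheck 4 = true := by decide +kernel

theorem normCheck_ok5 : normCheck 5 = true := by decide +kernel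

theorem normCheck_ok6 : normCheck 6 = true := by decide +kernel

theorem normCheck_ok7 : normCheck 7 = true := by decide +kernel

theorem normCheck_ok8 : normCheck 8 = true := by decide +kernel

theorem normCheck_ok9 : normCheck 9 = true := by decide +kernel

theorem normCheck_ok10 : normCheck 10 = true := by decide +kernel

theorem normCheck_ok (j : ℕ) (hj : j < 11) : normCheck j = true := by
  interval_cases j
  · exact normCheck_ok0
  · exact normCheck_ok1
  · exact normCheck_ok2
  · exact normCheck_ok3
  · exact normCheck_ok4
  · exact normCheck_ok5
  · exact normCheck_ok6
  · exact normCheck_ok7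
  · exact normCheck_ok8
  · exact normCheck_ok9
  · exact normCheck_ok10

end Cfsg.Agent.Lib.Lead.U5
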