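import Mathlib
import Cfsg.Agent.Lib.Lead.U5.E4
import Cfsg.Agent.Lib.Helper16.UnitaryFixed

/-!
# Project U5 : concrete `5 × 5` matrices over `E4` versus matrices over an abstract field of four elements. (`lead`)
-/

set_option autoImplicit false

namespace Cfsg.Agent.Lib.Lead.U5

open Matrix

variable {F : Type*} [Field F]

/-- the abstract matrix of a concrete one -/
def toMat (ω : F) (M : CM) : Matrix (Fin 5) (Fin 5) F := fun i j => iota ω (ent M i j)

variable {ω : F}

theorem toMat_apply (M : CM) (i j : Fin 5) : toMat ω M i j = iota ω (ent M i j) := rfl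

theorem toMat_cmul (h2 : (2 : F) = 0) (hω : ω ^ 2 + ω + 1 = 0) (M N : CM) :
    toMat ω (cmul M N) = toMat ω M * toMat ω N := by
  ext i j
  rw [Matrix.mul_apply, Fin.sum_univ_five]
  simp only [toMat_apply, cmul, ent_mk5, dot, iota_add h2, iota_mul h2 hω]
  rfl

theorem toMat_cone : toMat ω cone = (1 : Matrix (Fin 5) (Fin 5) F) := by
  ext i j
  rw [toMat_apply, cone, ent_mk5]
  fin_cases i <;> fin_cases j <;> simp [iota]

theorem toMat_csmul (h2 : (2 : F) = 0) (hω : ω ^ 2 + ω + 1 = 0) (c : E4) (M : CM) :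
    toMat ω (csmul c M) = iota ω c • toMat ω M := by
  ext i j
  rw [toMat_apply, csmul, ent_mk5, iota_mul h2 hω]
  rfl

theorem mk5_congr {f g : ℕ → ℕ → E4} (h : ∀ i j : Fin 5, f i j = g i j) : mk5 f = mk5 g := by
  have e := fun (i j : Fin 5) => h i j
  simp only [mk5, row5]
  have h00 := h 0 0; have h01 := h 0 1; have h02 := h 0 2; have h03 := h 0 3; have h04 := h 0 4
  have h10 := h 1 0; have h11 := h 1 1; have h12 := h 1 2; have h13 := h 1 3; have h14 := h 1 4
  have h20 := h 2 0; have h21 := h 2 1; have h22 := h 2 2; have h23 := h 2 3; have h24 := h 2 4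
  have h30 := h 3 0; have h31 := h 3 1; have h32 := h 3 2; have h33 := h 3 3; have h34 := h 3 4
  have h40 := h 4 0; have h41 := h 4 1; have h42 := h 4 2; have h43 := h 4 3; have h44 := h 4 4
  simp only [Fin.isValue, Fin.val_zero, Fin.val_one, Fin.val_two] at *
  norm_num at *
  simp [*]

theorem iota_udot (h2 : (2 : F) = 0) (hω : ω ^ 2 + ω + 1 = 0) (M : CM) (i j : Fin 5) :
    iota ω (udot M i j) = ∑ l, toMat ω M l i * (toMat ω M l j) ^ 2 := by
  rw [Fin.sum_univ_five]
  simp only [toMat_apply, udot, iota_add h2, iota_mul h2 hω, iota_sq h2 hω]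
  rfl

theorem isU_iff (h2 : (2 : F) = 0) (hω : ω ^ 2 + ω + 1 = 0) (M : CM) :
    isU M = true ↔ Cfsg.Agent.Lib.Helper16.UMat 2 (toMat ω M) := by
  unfold isU Cfsg.Agent.Lib.Helper16.UMat
  rw [beq_iff_eq]
  constructor
  · intro h i j
    rw [← iota_udot h2 hω]
    have : udot M i j = ent cone i j := by
      rw [← ent_mk5 (udot M) i j, h]
    rw [this, cone, ent_mk5]
    by_cases hij : i = j
    · subst hij; simp [iota]
    · have : (i : ℕ) ≠ (j : ℕ) := fun h => hij (Fin.ext h)
      simp [hij, this, iota]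
  · intro h
    unfold cone
    apply mk5_congr
    intro i j
    apply iota_injective h2 hω
    rw [iota_udot h2 hω, h i j]
    by_cases hij : i = j
    · subst hij; simp [iota]
    · have : (i : ℕ) ≠ (j : ℕ) := fun h => hij (Fin.ext h)
      simp [hij, this, iota]

end Cfsg.Agent.Lib.Lead.U5
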