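import Mathlib
import Cfsg.Prelude.Def_GeometricClasses
import Cfsg.Agent.Lib.Lead.U5.Glue
import Cfsg.Agent.Lib.Lead.U5.Cert

/-!
# Project U5 : abstract consequences of the certificates, part 1 (matrix level). (`lead`)
-/

set_option autoImplicit false

namespace Cfsg.Agent.Lib.Lead.U5

open Matrix

variable {F : Type*} [Field F]

instance : Fintype E4 := ⟨{E4.z, E4.o, E4.a, E4.b}, by intro x; cases x <;> simp⟩

theorem card_E4 : Fintype.card E4 = 4 := rfl

section basics

variable {ω : F}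

theorem toMat_cpow (h2 : (2 : F) = 0) (hω : ω ^ 2 + ω + 1 = 0) (M : CM) (k : ℕ) :
    toMat ω (cpow M k) = toMat ω M ^ k := by
  induction k with
  | zero => simp [cpow, toMat_cone]
  | succ k ih => rw [cpow, toMat_cmul h2 hω, ih, pow_succ]

/-- the abstract vector of a concrete one -/
def toVec (ω : F) (v : List E4) : Fin 5 → F := fun i => iota ω (v.getD i E4.z)

theorem row5_getD (f : ℕ → E4) (i : Fin 5) : (row5 f).getD i E4.z = f i := by
  fin_cases i <;> rfl

theorem toVec_mv (h2 : (2 : F) = 0) (hω : ω ^ 2 + ω + 1 = 0) (C : CM) (v : List E4) :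
    toVec ω (mv C v) = toMat ω C *ᵥ toVec ω v := by
  ext i
  rw [Matrix.mulVec, dotProduct, Fin.sum_univ_five]
  simp only [toVec, mv, row5_getD, toMat_apply, iota_add h2, iota_mul h2 hω]
  rfl

/-- the abstract Krylov matrix -/
def Kry (A : Matrix (Fin 5) (Fin 5) F) (v : Fin 5 → F) : Matrix (Fin 5) (Fin 5) F :=
  fun i k => ((A ^ (k : ℕ)) *ᵥ v) i

theorem toMat_kry (h2 : (2 : F) = 0) (hω : ω ^ 2 + ω + 1 = 0) (C : CM) (w : List E4) :
    toMat ω (kry C w) = Kry (toMat ω C) (toVec ω w) := by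
  have step : ∀ (k : ℕ) (u : List E4), toVec ω u = (toMat ω C ^ k) *ᵥ toVec ω w →
      toVec ω (mv C u) = (toMat ω C ^ (k + 1)) *ᵥ toVec ω w := by
    intro k u hu
    rw [toVec_mv h2 hω, hu, Matrix.mulVec_mulVec, pow_succ']
  have h0 : toVec ω w = (toMat ω C ^ 0) *ᵥ toVec ω w := by simp
  have h1 := step 0 w h0
  have h2' := step 1 _ h1
  have h3 := step 2 _ h2'
  have h4 := step 3 _ h3
  ext i k
  rw [toMat_apply, kry, ent_mk5, Kry]
  fin_cases k
  · exact congrFun h0 i
  · exact congrFun h1 i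
  · exact congrFun h2' i
  · exact congrFun h3 i
  · exact congrFun h4 i

theorem mul_Kry (G A B : Matrix (Fin 5) (Fin 5) F) (v : Fin 5 → F) (h : G * A = B * G) :
    G * Kry A v = Kry B (G *ᵥ v) := by
  have hk : ∀ k : ℕ, G * A ^ k = B ^ k * G := by
    intro k
    induction k with
    | zero => simp
    | succ k ih => rw [pow_succ, ← mul_assoc, ih, mul_assoc, h, ← mul_assoc, ← pow_succ]
  ext i k
  rw [Matrix.mul_apply, Kry]
  have : (∑ l, G i l * Kry A v l k) = (G *ᵥ ((A ^ (k : ℕ)) *ᵥ v)) i := by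
    rw [Matrix.mulVec, dotProduct]
    rfl
  rw [this, Matrix.mulVec_mulVec, hk, ← Matrix.mulVec_mulVec]

theorem sameEnt_of_toMat_eq (h2 : (2 : F) = 0) (hω : ω ^ 2 + ω + 1 = 0) {M N : CM}
    (h : toMat ω M = toMat ω N) : sameEnt M N = true := by
  unfold sameEnt
  rw [beq_iff_eq]
  apply mk5_congr
  intro i j
  apply iota_injective h2 hω
  have := congrFun (congrFun h i) j
  simpa [toMat_apply] using this

end basics

end Cfsg.Agent.Lib.Lead.U5
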