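import Mathlib
import Cfsg.Prelude.Def_GeometricClasses
import Cfsg.Agent.Lib.Lead.U5.Expl1
import Cfsg.Agent.Lib.Lead.U5.CertN

/-!
# Project U5 : abstract consequences of the certificates, part 2 (the normaliser). (`lead`)
-/

set_option autoImplicit false

namespace Cfsg.Agent.Lib.Lead.U5

open Matrix Cfsg.Agent.Lib.Helper16

variable {F : Type*} [Field F] {ω : F}

theorem iota_z : iota ω E4.z = 0 := rfl

theorem iota_o : iota ω E4.o = 1 := rfl

theorem mem_e4s (x : E4) : x ∈ e4s := by cases x <;> simp [e4s]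

theorem mem_allVecs (x0 x1 x2 x3 x4 : E4) : [x0, x1, x2, x3, x4] ∈ allVecs := by
  unfold allVecs
  simp only [List.mem_flatMap, List.mem_map]
  exact ⟨x0, mem_e4s x0, x1, mem_e4s x1, x2, mem_e4s x2, x3, mem_e4s x3, x4, mem_e4s x4, rfl⟩

theorem tpows_eq (j : ℕ) (hj : j < 11) : tpows.getD j [] = cpow gt j := by
  have h := tpows_ok
  rw [List.all_eq_true] at h
  have := h j (List.mem_range.mpr hj)
  exact beq_iff_eq.mp this

/-- the key consequence of the normaliser certificates -/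
theorem norm_mem (h2 : (2 : F) = 0) (hω : ω ^ 2 + ω + 1 = 0) (hsurj : ∀ x : F, ∃ e : E4, iota ω e = x)
    (G : Matrix (Fin 5) (Fin 5) F) (hU : UMat 2 G) (j : ℕ) (hj : j < 11)
    (hcomm : G * toMat ω gt = toMat ω gt ^ j * G) :
    ∃ M ∈ tbl, G = toMat ω M ∨ iota ω E4.a • G = toMat ω M ∨ iota ω E4.b • G = toMat ω M := by
  classical
  -- the first column
  choose e he using fun i : Fin 5 => hsurj (G i 0)
  set w : List E4 := [e 0, e 1, e 2, e 3, e 4] with hw
  have hwv : toVec ω w = G *ᵥ toVec ω [E4.o, E4.z, E4.z, E4.z, E4.z] := by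
    ext i
    rw [Matrix.mulVec, dotProduct, Fin.sum_univ_five]
    fin_cases i <;> simp [toVec, hw, he, iota_z, iota_o]
  -- the Krylov identity
  have hK := mul_Kry G (toMat ω gt) (toMat ω gt ^ j) (toVec ω [E4.o, E4.z, E4.z, E4.z, E4.z]) hcomm
  rw [← hwv, ← toMat_kry h2 hω, ← toMat_cpow h2 hω, ← tpows_eq j hj, ← toMat_kry h2 hω] at hK
  have hP : toMat ω (kry gt [E4.o, E4.z, E4.z, E4.z, E4.z]) * toMat ω p0inv = 1 := by
    rw [← toMat_cmul h2 hω, p0_ok, toMat_cone]
  have hG : G = toMat ω (cmul (kry (tpows.getD j []) w) p0inv) := by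
    rw [toMat_cmul h2 hω, ← hK, mul_assoc, hP, mul_one]
  -- the certificate
  have hc := normCheck_ok j hj
  unfold normCheck at hc
  rw [List.all_eq_true] at hc
  have hcw := hc w (mem_allVecs _ _ _ _ _)
  have hn1 : normOne w = true := by
    unfold normOne
    rw [beq_iff_eq]
    apply iota_injective h2 hω
    have h00 := hU 0 0
    rw [Fin.sum_univ_five] at h00
    simp only [iota_add h2, iota_mul h2 hω, iota_sq h2 hω, hw, List.getD_cons_zero, List.getD_cons_succ, he]
    rw [iota_o]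
    simpa using h00
  rw [hn1] at hcw
  simp only [Bool.not_true, Bool.false_or] at hcw
  unfold candOK at hcw
  have hisU : isU (cmul (kry (tpows.getD j []) w) p0inv) = true := by
    rw [isU_iff h2 hω, ← hG]
    exact hU
  rw [hisU] at hcw
  simp only [Bool.not_true, Bool.false_or, Bool.or_eq_true, List.contains_iff_mem] at hcw
  rcases hcw with (hm | hm) | hm
  · exact ⟨_, hm, Or.inl hG⟩
  · refine ⟨_, hm, Or.inr (Or.inl ?_)⟩
    rw [toMat_csmul h2 hω, ← hG]
  · refine ⟨_, hm, Or.inr (Or.inr ?_)⟩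
    rw [toMat_csmul h2 hω, ← hG]

end Cfsg.Agent.Lib.Lead.U5
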