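import Mathlib
import Cfsg.Prelude.Def_GeometricClasses
import Cfsg.Agent.Lib.Lead.ASCU.Defs
import Cfsg.Agent.Lib.Lead.U5.Expl2

/-!
# Project U5 : the explicit subgroup `L ≅ L_2(11)` of `SU_5(2)` (group level). (`lead`)
-/

set_option autoImplicit false

namespace Cfsg.Agent.Lib.Lead.U5

open Matrix Cfsg Cfsg.Geo Cfsg.Agent.Lib.Helper16 Cfsg.Agent.Lib.Lead.ASCU
open scoped MatrixGroups

variable {F : Type*} [Field F]

theorem exists_omega [Fintype F] (hF : Fintype.card F = 2 ^ 2) :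
    (2 : F) = 0 ∧ ∃ ω : F, ω ^ 2 + ω + 1 = 0 ∧ ∀ x : F, ∃ e : E4, iota ω e = x := by
  classical
  have h4 : ((Fintype.card F : ℕ) : F) = 0 := Nat.cast_card_eq_zero F
  have h2 : (2 : F) = 0 := by
    rw [hF] at h4
    have : (2 : F) * 2 = 0 := by
      have e : (((2 ^ 2 : ℕ)) : F) = 2 * 2 := by norm_num
      rw [← e]; exact h4
    exact mul_self_eq_zero.mp this
  refine ⟨h2, ?_⟩
  have hex : ∃ x : F, x ≠ 0 ∧ x ≠ 1 := by
    by_contra hcon
    push Not at hcon
    have hsub : (Finset.univ : Finset F) ⊆ {0, 1} := by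
      intro x _
      by_cases hx : x = 0
      · simp [hx]
      · simp [hcon x hx]
    have := Finset.card_le_card hsub
    rw [Finset.card_univ, hF] at this
    have h2' : ({0, 1} : Finset F).card ≤ 2 := Finset.card_le_two
    omega
  obtain ⟨x, hx0, hx1⟩ := hex
  have hx3 : x ^ 3 = 1 := by
    have := FiniteField.pow_card_sub_one_eq_one x hx0
    rw [hF] at this
    simpa using this
  have hω : x ^ 2 + x + 1 = 0 := by
    have hx1' : x - 1 ≠ 0 := sub_ne_zero.mpr hx1
    have : (x - 1) * (x ^ 2 + x + 1) = 0 := by linear_combination hx3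
    exact (mul_eq_zero.mp this).resolve_left hx1'
  refine ⟨x, hω, ?_⟩
  have hinj := iota_injective (ω := x) h2 hω
  have hbij : Function.Bijective (iota x) := by
    rw [Fintype.bijective_iff_injective_and_card]
    exact ⟨hinj, by rw [card_E4, hF]; norm_num⟩
  exact hbij.2

section grp

variable {ω : F} (h2 : (2 : F) = 0) (hω : ω ^ 2 + ω + 1 = 0)

include h2 hω in
theorem gt_pow' : toMat ω (cpow gt 10) * toMat ω gt = 1 := by
  rw [← toMat_cmul h2 hω]
  show toMat ω (cpow gt 11) = 1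
  rw [gt_pow, toMat_cone]

/-- the involution -/
def sG : GL (Fin 5) F :=
  ⟨toMat ω gs, toMat ω gs, by rw [← toMat_cmul h2 hω, gs_sq, toMat_cone],
    by rw [← toMat_cmul h2 hω, gs_sq, toMat_cone]⟩

/-- the element of order `11` -/
def tG : GL (Fin 5) F :=
  ⟨toMat ω gt, toMat ω (cpow gt 10), mul_eq_one_comm.mp (gt_pow' h2 hω), gt_pow' h2 hω⟩

theorem sG_val : ((sG h2 hω : GL (Fin 5) F) : Matrix (Fin 5) (Fin 5) F) = toMat ω gs := rfl

theorem tG_val : ((tG h2 hω : GL (Fin 5) F) : Matrix (Fin 5) (Fin 5) F) = toMat ω gt := rfl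

theorem sG_sq : sG h2 hω * sG h2 hω = 1 := by
  apply Units.ext
  rw [Units.val_mul, sG_val, ← toMat_cmul h2 hω, gs_sq, toMat_cone]
  rfl

theorem tG_pow : tG h2 hω ^ 11 = 1 := by
  apply Units.ext
  rw [Units.val_pow_eq_pow_val, tG_val, ← toMat_cpow h2 hω, gt_pow, toMat_cone]
  rfl

theorem tG_ne_one : tG h2 hω ≠ 1 := by
  intro h
  have h1 : toMat ω gt = toMat ω cone := by
    rw [toMat_cone, ← tG_val h2 hω, h]; rfl
  have := sameEnt_of_toMat_eq h2 hω h1
  rw [gt_ne] at this
  exact Bool.false_ne_true this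

theorem orderOf_tG : orderOf (tG h2 hω) = 11 := by
  have h11 : (11 : ℕ).Prime := by norm_num
  haveI : Fact (11 : ℕ).Prime := ⟨h11⟩
  exact orderOf_eq_prime (tG_pow h2 hω) (tG_ne_one h2 hω)

/-- the explicit group -/
def Lgrp : Subgroup (GL (Fin 5) F) := Subgroup.closure {sG h2 hω, tG h2 hω}

theorem mem_tbl_of_lt {i : ℕ} (hi : i < 660) : tbl.getD i [] ∈ tbl := by
  have hl : i < tbl.length := by rw [tbl_length]; exact hi
  rw [List.getD_eq_getElem _ _ hl]
  exact List.getElem_mem hl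

theorem exists_index {M : CM} (hM : M ∈ tbl) : ∃ i < 660, M = tbl.getD i [] := by
  obtain ⟨i, hi, rfl⟩ := List.mem_iff_getElem.mp hM
  refine ⟨i, by rw [← tbl_length]; exact hi, ?_⟩
  rw [List.getD_eq_getElem _ _ hi]

/-- right multiplication by the generators stays in the table -/
theorem tbl_step {M : CM} (hM : M ∈ tbl) : cmul M gs ∈ tbl ∧ cmul M gt ∈ tbl := by
  obtain ⟨i, hi, rfl⟩ := exists_index hM
  have h := closureCheck_ok
  unfold closureCheck at h
  rw [List.all_eq_true] at h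
  have hs := h i (List.mem_range.mpr hi)
  unfold stepOK at hs
  simp only [Bool.and_eq_true, decide_eq_true_eq, beq_iff_eq] at hs
  obtain ⟨⟨ha, hsa⟩, ⟨hb, hsb⟩⟩ := hs
  rw [hsa, hsb]
  exact ⟨mem_tbl_of_lt ha, mem_tbl_of_lt hb⟩

/-- every table entry is the matrix of an element of `L` -/
theorem reach (i : ℕ) (hi : i < 660) :
    ∃ l ∈ Lgrp h2 hω, ((l : GL (Fin 5) F) : Matrix (Fin 5) (Fin 5) F) = toMat ω (tbl.getD i []) := by
  induction i using Nat.strong_induction_on with
  | _ i ih =>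
    rcases Nat.eq_zero_or_pos i with rfl | hpos
    · exact ⟨1, (Lgrp h2 hω).one_mem, by rw [tbl_zero, toMat_cone]; rfl⟩
    · obtain ⟨k, rfl⟩ : ∃ k, i = k + 1 := ⟨i - 1, by omega⟩
      have h := parCheck_ok
      unfold parCheck at h
      rw [List.all_eq_true] at h
      have hp := h k (List.mem_range.mpr (by omega))
      unfold parOK at hp
      simp only [Bool.and_eq_true, decide_eq_true_eq, beq_iff_eq] at hp
      obtain ⟨hlt, heq⟩ := hp
      obtain ⟨l', hl', hl'v⟩ := ih _ hlt (by omega)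
      rw [heq]
      by_cases hS : parS.getD (k + 1) true = true
      · rw [if_pos hS]
        refine ⟨l' * sG h2 hω, (Lgrp h2 hω).mul_mem hl' (Subgroup.subset_closure (by simp)), ?_⟩
        rw [Units.val_mul, hl'v, sG_val, toMat_cmul h2 hω]
      · rw [if_neg hS]
        refine ⟨l' * tG h2 hω, (Lgrp h2 hω).mul_mem hl' (Subgroup.subset_closure (by simp)), ?_⟩
        rw [Units.val_mul, hl'v, tG_val, toMat_cmul h2 hω]

theorem reach' {M : CM} (hM : M ∈ tbl) :
    ∃ l ∈ Lgrp h2 hω, ((l : GL (Fin 5) F) : Matrix (Fin 5) (Fin 5) F) = toMat ω M := by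
  obtain ⟨i, hi, rfl⟩ := exists_index hM
  exact reach h2 hω i hi

/-- the property of staying in the table under right multiplication -/
def Stays (ω : F) (g : GL (Fin 5) F) : Prop :=
  ∀ M ∈ tbl, ∃ M' ∈ tbl, toMat ω M * (g : Matrix (Fin 5) (Fin 5) F) = toMat ω M'

theorem stays_one : Stays ω (1 : GL (Fin 5) F) := fun M hM => ⟨M, hM, by simp⟩

theorem stays_mul {g h : GL (Fin 5) F} (hg : Stays ω g) (hh : Stays ω h) : Stays ω (g * h) := by
  intro M hM
  obtain ⟨M1, hM1, e1⟩ := hg M hM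
  obtain ⟨M2, hM2, e2⟩ := hh M1 hM1
  exact ⟨M2, hM2, by rw [Units.val_mul, ← mul_assoc, e1, e2]⟩

theorem stays_pow {g : GL (Fin 5) F} (hg : Stays ω g) (k : ℕ) : Stays ω (g ^ k) := by
  induction k with
  | zero => simpa using stays_one
  | succ k ih => rw [pow_succ]; exact stays_mul ih hg

theorem stays_sG : Stays ω (sG h2 hω) := fun M hM =>
  ⟨cmul M gs, (tbl_step hM).1, by rw [sG_val, toMat_cmul h2 hω]⟩

theorem stays_tG : Stays ω (tG h2 hω) := fun M hM =>
  ⟨cmul M gt, (tbl_step hM).2, by rw [tG_val, toMat_cmul h2 hω]⟩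

theorem sG_inv : (sG h2 hω)⁻¹ = sG h2 hω := inv_eq_of_mul_eq_one_right (sG_sq h2 hω)

theorem tG_inv : (tG h2 hω)⁻¹ = tG h2 hω ^ 10 := by
  apply inv_eq_of_mul_eq_one_right
  rw [← pow_succ']
  exact tG_pow h2 hω

theorem stays_of_mem {l : GL (Fin 5) F} (hl : l ∈ Lgrp h2 hω) : Stays ω l := by
  have key : ∀ x ∈ Submonoid.closure
      (({sG h2 hω, tG h2 hω} : Set (GL (Fin 5) F)) ∪ ({sG h2 hω, tG h2 hω} : Set (GL (Fin 5) F))⁻¹),
      Stays ω x := by
    intro x hx
    induction hx using Submonoid.closure_induction with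
    | mem x hx =>
      rcases hx with hx | hx
      · rcases hx with rfl | hx
        · exact stays_sG h2 hω
        · rw [Set.mem_singleton_iff] at hx; subst hx; exact stays_tG h2 hω
      · rw [Set.mem_inv] at hx
        rcases hx with hx | hx
        · have : x = sG h2 hω := by rw [← inv_inv x, hx, sG_inv]
          rw [this]; exact stays_sG h2 hω
        · rw [Set.mem_singleton_iff] at hx
          have : x = tG h2 hω ^ 10 := by rw [← inv_inv x, hx, tG_inv]
          rw [this]; exact stays_pow (stays_tG h2 hω) 10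
    | one => exact stays_one
    | mul x y _ _ hx hy => exact stays_mul hx hy
  have h1 : l ∈ (Lgrp h2 hω).toSubmonoid := hl
  unfold Lgrp at h1
  rw [Subgroup.closure_toSubmonoid] at h1
  exact key l h1

/-- every element of `L` has its matrix in the table -/
theorem in_tbl {l : GL (Fin 5) F} (hl : l ∈ Lgrp h2 hω) :
    ∃ M ∈ tbl, ((l : GL (Fin 5) F) : Matrix (Fin 5) (Fin 5) F) = toMat ω M := by
  have hc : cone ∈ tbl := by rw [← tbl_zero]; exact mem_tbl_of_lt (by norm_num)
  obtain ⟨M', hM', e⟩ := stays_of_mem h2 hω hl cone hc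
  exact ⟨M', hM', by rw [← e, toMat_cone, one_mul]⟩

end grp

end Cfsg.Agent.Lib.Lead.U5
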