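import Mathlib
import Cfsg.Prelude.Def_GeometricClasses
import Cfsg.Agent.Lib.Lead.ASCU.Defs
import Cfsg.Agent.Lib.Lead.U5.Expl3

/-!
# Project U5, piece EXPL : an explicit `L_2(11) < SU_5(2)` containing the normaliser of its Sylow `11`-subgroup. (`lead`)
-/

set_option autoImplicit false

namespace Cfsg.Agent.Lib.Lead.U5

open Matrix Cfsg Cfsg.Geo Cfsg.Agent.Lib.Helper16 Cfsg.Agent.Lib.Lead.ASCU
open scoped MatrixGroups

variable {F : Type*} [Field F] [Fintype F]

/-- an element of order prime to `3` of `GL_5(F_4)` has determinant one -/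
theorem mem_SL_of_pow (hF : Fintype.card F = 2 ^ 2) (g : GL (Fin 5) F) (k : ℕ) (hk : g ^ k = 1)
    (hcop : Nat.Coprime k 3) : g ∈ specialLinear (Fin 5) F := by
  classical
  unfold specialLinear
  rw [MonoidHom.mem_ker]
  set d : Fˣ := Matrix.GeneralLinearGroup.det g with hd
  have h1 : d ^ k = 1 := by rw [hd, ← map_pow, hk, map_one]
  have h3 : d ^ 3 = 1 := by
    have : Fintype.card Fˣ = 3 := by rw [Fintype.card_units, hF]; norm_num
    rw [← this]
    exact pow_card_eq_one
  have hdvd : orderOf d ∣ Nat.gcd k 3 := Nat.dvd_gcd (orderOf_dvd_of_pow_eq_one h1) (orderOf_dvd_of_pow_eq_one h3)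
  rw [hcop.gcd_eq_one, Nat.dvd_one, orderOf_eq_one_iff] at hdvd
  exact hdvd

theorem mem_SL_iff (g : GL (Fin 5) F) :
    g ∈ specialLinear (Fin 5) F ↔ Matrix.det (g : Matrix (Fin 5) (Fin 5) F) = 1 := by
  unfold specialLinear
  rw [MonoidHom.mem_ker]
  constructor
  · intro h
    have := congrArg Units.val h
    simpa using this
  · intro h
    apply Units.ext
    simpa using h

theorem explicit_L (hF : Fintype.card F = 2 ^ 2) :
    ∃ (L : Subgroup (GL (Fin 5) F)) (c₀ : GL (Fin 5) F), L ≤ SUg 5 F 2 ∧ L ≠ SUg 5 F 2 ∧ c₀ ∈ L ∧ orderOf c₀ = 11 ∧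
      (∀ g ∈ SUg 5 F 2, g * c₀ * g⁻¹ ∈ Subgroup.zpowers c₀ → g ∈ L) ∧
      (∃ a ∈ L, ¬ (a * c₀ * a⁻¹ ∈ Subgroup.zpowers c₀)) := by
  classical
  obtain ⟨h2, ω, hω, hsurj⟩ := exists_omega hF
  haveI : CharP F 2 := CharTwo.of_one_ne_zero_of_two_eq_zero one_ne_zero h2
  have hGU : ∀ g : GL (Fin 5) F, g ∈ GU 5 F 2 ↔ UMat 2 (g : Matrix (Fin 5) (Fin 5) F) := fun g =>
    mem_GU_iff_UMat (p := 2) (a := 1) Nat.prime_two (by norm_num) (by norm_num) g
  have hord := orderOf_tG h2 hω
  -- generators in `SU`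
  have hsSU : sG h2 hω ∈ SUg 5 F 2 := by
    refine Subgroup.mem_inf.mpr ⟨(hGU _).mpr ?_, ?_⟩
    · rw [sG_val, ← isU_iff h2 hω]; exact gs_U
    · exact mem_SL_of_pow hF _ 2 (by rw [pow_two]; exact sG_sq h2 hω) (by norm_num)
  have htSU : tG h2 hω ∈ SUg 5 F 2 := by
    refine Subgroup.mem_inf.mpr ⟨(hGU _).mpr ?_, ?_⟩
    · rw [tG_val, ← isU_iff h2 hω]; exact gt_U
    · exact mem_SL_of_pow hF _ 11 (tG_pow h2 hω) (by norm_num)
  have hLle : Lgrp h2 hω ≤ SUg 5 F 2 := by
    unfold Lgrp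
    rw [Subgroup.closure_le]
    intro x hx
    rcases hx with rfl | hx
    · exact hsSU
    · rw [Set.mem_singleton_iff] at hx; subst hx; exact htSU
  have hsL : sG h2 hω ∈ Lgrp h2 hω := Subgroup.subset_closure (by simp)
  have htL : tG h2 hω ∈ Lgrp h2 hω := Subgroup.subset_closure (by simp)
  -- reduce an element of `zpowers` to an exponent below `11`
  have hexp : ∀ x : GL (Fin 5) F, x ∈ Subgroup.zpowers (tG h2 hω) → ∃ j : ℕ, j < 11 ∧ x = tG h2 hω ^ j := by
    intro x hx
    obtain ⟨k, rfl⟩ := Subgroup.mem_zpowers_iff.mp hx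
    refine ⟨(k % 11).toNat, ?_, ?_⟩
    · have := Int.emod_lt_of_pos k (by norm_num : (0 : ℤ) < 11)
      omega
    · have h0 : 0 ≤ k % 11 := Int.emod_nonneg k (by norm_num)
      rw [← zpow_natCast, Int.toNat_of_nonneg h0]
      have := zpow_mod_orderOf (tG h2 hω) k
      rw [hord] at this
      exact this.symm
  refine ⟨Lgrp h2 hω, tG h2 hω, hLle, ?_, htL, hord, ?_, ?_⟩
  · -- proper
    intro hEq
    have hd1 : toMat ω dwit * toMat ω dwit = 1 := by rw [← toMat_cmul h2 hω, dwit_sq, toMat_cone]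
    let dG : GL (Fin 5) F := ⟨toMat ω dwit, toMat ω dwit, hd1, hd1⟩
    have hdSU : dG ∈ SUg 5 F 2 := by
      refine Subgroup.mem_inf.mpr ⟨(hGU _).mpr ?_, ?_⟩
      · show UMat 2 (toMat ω dwit); rw [← isU_iff h2 hω]; exact dwit_U
      · refine mem_SL_of_pow hF _ 2 ?_ (by norm_num)
        apply Units.ext
        rw [pow_two, Units.val_mul]
        exact hd1
    rw [← hEq] at hdSU
    obtain ⟨M, hM, e⟩ := in_tbl h2 hω hdSU
    have e' : toMat ω M = toMat ω dwit := e.symm
    have hs := sameEnt_of_toMat_eq h2 hω e'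
    have hn := dwit_notin
    rw [List.all_eq_true] at hn
    have := hn M hM
    rw [hs] at this
    simp at this
  · -- the normaliser
    intro g hg hgc
    obtain ⟨j, hj, hj'⟩ := hexp _ hgc
    have hcomm : (g : Matrix (Fin 5) (Fin 5) F) * toMat ω gt = toMat ω gt ^ j * (g : Matrix (Fin 5) (Fin 5) F) := by
      have h1 : g * tG h2 hω = tG h2 hω ^ j * g := by
        rw [← hj']; group
      have := congrArg (fun u : GL (Fin 5) F => (u : Matrix (Fin 5) (Fin 5) F)) h1
      simpa [Units.val_mul, Units.val_pow_eq_pow_val, tG_val] using this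
    have hU : UMat 2 (g : Matrix (Fin 5) (Fin 5) F) := (hGU g).mp (Subgroup.mem_inf.mp hg).1
    have hdet : Matrix.det (g : Matrix (Fin 5) (Fin 5) F) = 1 := (mem_SL_iff g).mp (Subgroup.mem_inf.mp hg).2
    obtain ⟨M, hM, hcase⟩ := norm_mem h2 hω hsurj _ hU j hj hcomm
    obtain ⟨l, hl, hlv⟩ := reach' h2 hω hM
    have hldet : Matrix.det (l : Matrix (Fin 5) (Fin 5) F) = 1 := (mem_SL_iff l).mp (Subgroup.mem_inf.mp (hLle hl)).2
    have hw3 : ω ^ 3 = 1 := by linear_combination (ω - 1) * hω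
    have hw1 : ω ≠ 1 := by
      rintro rfl
      have : (1 : F) = 0 := by linear_combination hω - h2
      exact one_ne_zero this
    -- a cube root of unity whose fifth power is one is one
    have hcube : ∀ c : F, c ^ 3 = 1 → c ^ 5 = 1 → c = 1 := by
      intro c h3 h5
      have hc2 : c ^ 2 = 1 := by
        have : c ^ 5 = c ^ 3 * c ^ 2 := by ring
        rw [this, h3, one_mul] at h5
        exact h5
      have : c ^ 3 = c ^ 2 * c := by ring
      rw [this, hc2, one_mul] at h3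
      exact h3
    rcases hcase with e | e | e
    · have : g = l := Units.ext (by rw [e, hlv])
      rw [this]; exact hl
    · exfalso
      have h1 : Matrix.det (iota ω E4.a • (g : Matrix (Fin 5) (Fin 5) F)) = 1 := by rw [e, ← hlv, hldet]
      rw [Matrix.det_smul, hdet, mul_one, Fintype.card_fin] at h1
      exact hw1 (hcube ω hw3 h1)
    · exfalso
      have h1 : Matrix.det (iota ω E4.b • (g : Matrix (Fin 5) (Fin 5) F)) = 1 := by rw [e, ← hlv, hldet]
      rw [Matrix.det_smul, hdet, mul_one, Fintype.card_fin] at h1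
      have hb3 : (ω + 1) ^ 3 = 1 := by linear_combination ω * hω + (ω ^ 2 + ω) * h2
      have : ω + 1 = 1 := hcube (ω + 1) hb3 h1
      have hw0 : ω = 0 := by linear_combination this
      rw [hw0] at hω
      simp at hω
  · -- `s` does not normalise
    refine ⟨sG h2 hω, hsL, ?_⟩
    intro hmem
    obtain ⟨j, hj, hj'⟩ := hexp _ hmem
    have h1 := congrArg (fun u : GL (Fin 5) F => (u : Matrix (Fin 5) (Fin 5) F)) hj'
    simp only [Units.val_mul, Units.val_pow_eq_pow_val, tG_val, sG_val, sG_inv h2 hω] at h1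
    rw [← toMat_cmul h2 hω, ← toMat_cmul h2 hω, ← toMat_cpow h2 hω] at h1
    have hs := sameEnt_of_toMat_eq h2 hω h1
    have hn := conj_ne
    rw [List.all_eq_true] at hn
    have := hn j (List.mem_range.mpr hj)
    rw [hs] at this
    simp at this

end Cfsg.Agent.Lib.Lead.U5
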