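import Mathlib
import Cfsg.Prelude.Def_GeometricClasses
import Cfsg.Agent.Lib.Lead.ASCU.Defs
import Cfsg.Agent.Lib.Helper20.U5ARITH5
import Cfsg.Agent.Lib.Helper20.U5TOR
import Cfsg.Agent.Lib.helper2.U5SYL
import Cfsg.Agent.Lib.Lead.U5.Expl

set_option autoImplicit false
set_option linter.unusedVariables false

namespace Cfsg.Agent.Lib.Lead.U5

open Cfsg Cfsg.Geo Cfsg.Agent.Lib.Lead.ASCU
open scoped MatrixGroups Matrix

variable {F : Type*} [Field F] [Fintype F]

/-- two elements of the same prime order, one in the cyclic group of the other, generate the same group -/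
theorem zpowers_eq_of_mem {G : Type*} [Group G] {x y : G} {p : ℕ} (hp : p.Prime) (hx : orderOf x = p)
    (hy : orderOf y = p) (h : x ∈ Subgroup.zpowers y) : Subgroup.zpowers x = Subgroup.zpowers y := by
  haveI : Fact p.Prime := ⟨hp⟩
  have hle : Subgroup.zpowers x ≤ Subgroup.zpowers y := by
    rw [Subgroup.zpowers_le]; exact h
  have hcx : Nat.card (Subgroup.zpowers x) = p := by rw [Nat.card_zpowers, hx]
  have hcy : Nat.card (Subgroup.zpowers y) = p := by rw [Nat.card_zpowers, hy]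
  haveI : Finite (Subgroup.zpowers y) := Nat.finite_of_card_ne_zero (by rw [hcy]; exact hp.ne_zero)
  exact Subgroup.eq_of_le_of_card_ge hle (by rw [hcx, hcy])

/-- conjugating a normalising element -/
theorem conj_normalises {G : Type*} [Group G] {g h c y : G} (hh : h * c * h⁻¹ ∈ Subgroup.zpowers c)
    (hy : y ∈ Subgroup.zpowers (g * c * g⁻¹)) :
    (g * h * g⁻¹) * y * (g * h * g⁻¹)⁻¹ ∈ Subgroup.zpowers (g * c * g⁻¹) := by
  obtain ⟨k, rfl⟩ := Subgroup.mem_zpowers_iff.mp hy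
  obtain ⟨m, hm⟩ := Subgroup.mem_zpowers_iff.mp hh
  have e1 : g * h * g⁻¹ * (g * c * g⁻¹) ^ k * (g * h * g⁻¹)⁻¹ = g * (h * c * h⁻¹) ^ k * g⁻¹ := by
    rw [conj_zpow, conj_zpow]; group
  rw [e1, ← hm, ← zpow_mul, ← conj_zpow]
  exact Subgroup.zpow_mem_zpowers _ _

theorem su52_field_not_max (hF : Fintype.card F = 2 ^ 2) (K : Subalgebra F (Matrix (Fin 5) (Fin 5) F))
    (hK : IsFieldSubalgebra 5 K) (hadj : IsAdjointClosedFor (hermForm 5 F 2) K) :
    ¬ IsMaximalIn (SUg 5 F 2) (subalgebraNormalizer K ⊓ SUg 5 F 2) := by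
  intro hmax
  obtain ⟨c, hcG, hc11, hnorm⟩ := torus_of_field hF K hK hadj
  obtain ⟨L, c₀, hLG, hLne, hc₀L, hc₀11, hNL, a, haL, haN⟩ := explicit_L hF
  obtain ⟨g, hgG, hg⟩ := sylow11_conj hF (SUg 5 F 2) c c₀ hcG (hLG hc₀L) hc11 hc₀11
  have h11 : (11 : ℕ).Prime := by norm_num
  have hgc11 : orderOf (g * c * g⁻¹) = 11 := by
    have : g * c * g⁻¹ = MulAut.conj g c := by simp [MulAut.conj_apply]
    rw [this, MulEquiv.orderOf_eq, hc11]
  have hz : Subgroup.zpowers (g * c * g⁻¹) = Subgroup.zpowers c₀ := zpowers_eq_of_mem h11 hgc11 hc₀11 hg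
  -- elements of `SUg` normalising `⟨c⟩` lie in `g⁻¹ L g`
  have key : ∀ h ∈ SUg 5 F 2, h * c * h⁻¹ ∈ Subgroup.zpowers c → g * h * g⁻¹ ∈ L := by
    intro h hh hhc
    apply hNL _ ((SUg 5 F 2).mul_mem ((SUg 5 F 2).mul_mem hgG hh) ((SUg 5 F 2).inv_mem hgG))
    rw [← hz]
    exact conj_normalises hhc (by rw [hz]; exact Subgroup.mem_zpowers c₀)
  set L' : Subgroup (GL (Fin 5) F) := L.map (MulAut.conj g⁻¹).toMonoidHom with hL'
  have memL' : ∀ x, x ∈ L' ↔ g * x * g⁻¹ ∈ L := by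
    intro x
    rw [hL', Subgroup.mem_map]
    constructor
    · rintro ⟨y, hy, rfl⟩
      simpa [MulAut.conj_apply, mul_assoc] using hy
    · intro hx
      exact ⟨g * x * g⁻¹, hx, by simp [MulAut.conj_apply, mul_assoc]⟩
  have hHL : subalgebraNormalizer K ⊓ SUg 5 F 2 ≤ L' := by
    intro h hh
    rw [memL']
    exact key h hh.2 (hnorm h hh.1)
  have hL'G : L' ≤ SUg 5 F 2 := by
    intro x hx
    rw [memL'] at hx
    have := hLG hx
    have h2 : x = g⁻¹ * (g * x * g⁻¹) * g := by group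
    rw [h2]
    exact (SUg 5 F 2).mul_mem ((SUg 5 F 2).mul_mem ((SUg 5 F 2).inv_mem hgG) this) hgG
  rcases hmax.2 L' hHL hL'G with h1 | h1
  · -- `L' = H` : then `g⁻¹ a g` normalises `⟨c⟩`
    have ha' : g⁻¹ * a * g ∈ L' := by
      rw [memL']
      have : g * (g⁻¹ * a * g) * g⁻¹ = a := by group
      rw [this]; exact haL
    rw [h1] at ha'
    have h2 := hnorm _ ha'.1
    apply haN
    have h3 := conj_normalises (g := g) h2 (y := c₀) (by rw [hz]; exact Subgroup.mem_zpowers c₀)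
    have e : g * (g⁻¹ * a * g) * g⁻¹ = a := by group
    rw [e, hz] at h3
    exact h3
  · -- `L' = SUg` : then `L = SUg`
    apply hLne
    apply le_antisymm hLG
    intro x hx
    have h2 : g⁻¹ * x * g ∈ L' := by
      rw [h1]
      exact (SUg 5 F 2).mul_mem ((SUg 5 F 2).mul_mem ((SUg 5 F 2).inv_mem hgG) hx) hgG
    rw [memL'] at h2
    have : g * (g⁻¹ * x * g) * g⁻¹ = x := by group
    rwa [this] at h2

end Cfsg.Agent.Lib.Lead.U5
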